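import Cfsg.Agent.T44.Ex.Grp
import Cfsg.Agent.DS.Nt.Box

/-!
# S3544, exceptional groups: the non-toral case (helper36)

`false_nonTor` : if `H` normalises no toral subgroup of the algebraic group, there is no configuration.
-/

set_option autoImplicit false
set_option linter.unusedSectionVars false

namespace Cfsg.Agent.T44.Ex

open CoxeterSystem Cfsg Cfsg.Lie Cfsg.Lie.ChevalleyDatum
open Cfsg.Agent.ChevalleyStructure Cfsg.Agent.ChevalleyStructure.Elts Cfsg.Agent.ChevalleyStructure.CoxeterGeom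
  Cfsg.Agent.ChevalleyStructure.CoxeterGeomTypes
open Cfsg.Agent.Tits.Roots Cfsg.Agent.Tits.Core Cfsg.Agent.Nodes Cfsg.Agent.Nodes.Reps Cfsg.Agent.Nodes.BNOf
  Cfsg.Agent.Nodes.RGDChev Cfsg.Agent.Nodes.Bruhat
open Cfsg.Agent.KFacts.RgdField Cfsg.Agent.KFacts.RgdChevCoord
open Cfsg.Agent.BpExc Cfsg.Agent.BpExc.TorCent Cfsg.Agent.BpExc.TorChev Cfsg.Agent.BpExc.Tow
  Cfsg.Agent.BpExc.TowChev Cfsg.Agent.BpExc.Fr Cfsg.Agent.BpExc.LangFr
open Cfsg.Agent.H469.Exc Cfsg.Agent.H795.SetCent Cfsg.Agent.H129.TorusChar Cfsg.Agent.DS.Ex Cfsg.Agent.DS.Nt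
open Cfsg.Agent.H185.EE Cfsg.Agent.H931.KC

variable {D : ChevalleyDatum} {l : ℕ} {M : CoxeterMatrix (Fin l)} {hp : IsType D l M} {p : ℕ} [Fact p.Prime]

variable (hp) in
/-- the component group of the centraliser of an element of prime order is cyclic of prime order -/
theorem DZ_cyc (hD : Typ D) {r : ℕ} (hr' : r.Prime) (hrp : r ≠ p) {t : YY D p} (ht : t ∈ TT D (KK p)) (htr : t ^ r = 1)
    {y c : YY D p} (hy : y * t = t * y) (hn : y ∉ DZ hp p {t}) (hc : c * t = t * c) :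
    ∃ j : ℕ, c * y ^ j ∈ DZ hp p {t} := by
  have := finW hp
  have := Fact.mk hr'
  have hZ : ({t} : Set (YY D p)) ⊆ TT D (KK p) := Set.singleton_subset_iff.2 ht
  obtain ⟨m, hm, w, hw, k, h1, h2, rfl⟩ := form hp (Set.finite_singleton t) hZ (c := y) fun s hs => by rw [hs, hy]
  obtain ⟨m', hm', w', hw', k', h1', h2', rfl⟩ := form hp (Set.finite_singleton t) hZ (c := c) fun s hs => by rw [hs, hc]
  have hw1 : (⟨w, mem_PP_of_PPZ hw⟩ : PP M.toCoxeterSystem hp.isCartan (KFacts.RgdChevCoord.ch hp) t) ≠ 1 := fun h => hn (by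
    rw [show w = 1 from congrArg Subtype.val h] at h1
    exact mul_mem (Mz_le_DZ hm) (T_le_DZ h1.mem_T))
  rcases card_PP (hp := hp) hD hr' hrp ht htr with h | ⟨h, -⟩
  · exact absurd ((Nat.card_eq_one_iff_unique.1 h).1.elim _ _) hw1
  obtain ⟨j, hj⟩ := mem_powers_of_prime_card h hw1 (g' := ⟨w', mem_PP_of_PPZ hw'⟩⁻¹)
  have h3 := h1'.mul (h1.pow j)
  rw [show w ^ j = w'⁻¹ from congrArg Subtype.val hj, mul_inv_cancel] at h3
  refine ⟨j, mem_DZ.2 ⟨_, mul_mem hm' (h1'.conj_Mz hZ h2' (pow_mul_mem_Mz hZ hm h1 h2 j)), _, h3.mem_T, by group⟩⟩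

theorem exists_cyc (hp : IsType D l M) (hD : Typ D) {r : ℕ} (hr' : r.Prime) (hrp : r ≠ p) {z : YY D p} (hz : z ^ r = 1) :
    ∃ K : Subgroup (YY D p), (∀ y : YY D p, y ^ r = 1 → (y ∈ K ↔ Tp p z y)) ∧
      ∀ y c : YY D p, y * z = z * y → y ∉ K → c * z = z * c → ∃ j : ℕ, c * y ^ j ∈ K := by
  obtain ⟨g, hg⟩ := exists_conj_T hp hr' hrp (n := 1) (by rw [pow_one]; exact hz)
  have hpow : ∀ y : YY D p, y ^ r = 1 → (g * y * g⁻¹) ^ r = 1 := fun y hy => by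
    rw [conj_pow, hy, mul_one, mul_inv_cancel]
  refine ⟨(DZ hp p {g * z * g⁻¹}).comap (MulAut.conj g).toMonoidHom, fun y hy => ⟨fun h => ?_, fun h => ?_⟩,
    fun y c hy hn hc => ?_⟩
  · exact (tp_of_mem_DZ hr' hrp hg ⟨1, by rw [pow_one, hpow z hz]⟩ h ⟨1, by rw [pow_one]; exact hpow y hy⟩).of_conj
  · exact mem_DZ_of_tp hD hg (h.conj g)
  · obtain ⟨j, hj⟩ := DZ_cyc hp hD hr' hrp hg (hpow z hz) (conj_comm (g := g) hy) hn (conj_comm (g := g) hc)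
    refine ⟨j, ?_⟩
    show g * (c * y ^ j) * g⁻¹ ∈ DZ hp p {g * z * g⁻¹}
    rwa [conj_pow, ← mul_assoc, ← mul_assoc, inv_mul_cancel_right, mul_assoc g c] at hj

variable {G : Type} [Group G] [Finite G] {T H Q : Subgroup G} {r : ℕ} {Ya Yb : Set G} {da db : ℕ}

/-- **The non-toral case.** -/
theorem false_nonTor (h : AS T H Q r Ya Yb da db) (hD : Typ D) (L : Lift hp p T) (hrp : r ≠ p)
    (fr : ∃ g : (Fin l → ℤ) ≃+ (Fin l → ℤ), Fr M.toCoxeterSystem hp.isCartan (TT D (KK p)) (XX D l (KK p)) L.σ g)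
    (noT : ∀ A₀ : Subgroup (YY D p), Toral p A₀ → L.Inv H A₀ → A₀ = ⊥) : False := by
  have C : Ctx L H := ⟨hD, setup h, fr, noP h Fact.out hrp, noT⟩
  have c := h.toCfg
  have hQ : ∀ {x : G} (hx : x ∈ Q), L.ι ⟨x, c.Q_le_T hx⟩ ∈ im L Q := fun hx => ι_mem_im.2 hx
  rcases rad_cases C h.prime h.Q_ne c.Q_le_T c.H_norm_Q h.isO.pg with ⟨E, hEQ, hL, hE, h1⟩ | ⟨h1, h2, h3, h4⟩
  · have hn : T ⊓ H ≤ Subgroup.normalizer (E : Set G) := inf_le_right.trans hL.norm.ge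
    rcases loc_struct C hL hE with ⟨⟨A, hA, hT, hF⟩, h2⟩ | ⟨⟨i, d, J, -, -, hO⟩, -⟩
    · obtain ⟨P, f, hP, hf⟩ := exists_hom_W hp (hE.mono hA).el hT hF
      have hle : T ⊓ H ⊓ Subgroup.centralizer (E : Set G) ≤ T := inf_le_left.trans inf_le_left
      let j : ↥(T ⊓ H ⊓ Subgroup.centralizer (E : Set G)) →* Subgroup.centralizer (A : Set (YY D p)) :=
        (L.ι.comp (Subgroup.inclusion hle)).codRestrict _ fun x =>
          Subgroup.mem_centralizer_iff.2 fun a ha => (ι_comm (L := L) (c := Subgroup.inclusion hle x) x.2.2 (hA ha)).symm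
      have hj : Function.Injective j := fun x y e =>
        Subgroup.inclusion_injective hle (L.inj (congrArg Subtype.val e))
      have hC := pg_of_hom (ch c) inf_le_left (norm_inf Subgroup.le_normalizer (norm_centralizer hn)) hP (f.comp j)
        fun x y hx hy => hj (by rw [map_mul, map_mul]; exact hf _ _ hx hy)
      have hE' := h.isO.pg.to_le hEQ
      rcases h2 with ⟨-, rfl, h3⟩ | ⟨-, rfl, h3⟩ | ⟨-, rfl, h3⟩ | ⟨-, rfl, h3⟩
      · exact c.false_of_card hE' hn hC h3 (Or.inr (Or.inl ⟨rfl, by norm_num⟩))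
      · exact c.false_of_card hE' hn hC h3 (Or.inr (Or.inl ⟨rfl, le_rfl⟩))
      · exact c.false_of_card hE' hn hC h3 (Or.inr (Or.inr ⟨rfl, le_rfl⟩))
      · exact c.false_of_card hE' hn hC h3 (Or.inl ⟨rfl, le_rfl⟩)
    · refine c.false_of_cent_comm ⟨hL.comm, hL.pow⟩ ⟨hL.ne_bot, hL.norm.ge, hL.min⟩ hEQ (fun x hx => ?_)
        fun a ha b hb => hO.comm a ⟨ha.2, ha.1⟩ b ⟨hb.2, hb.1⟩
      refine Subgroup.mem_centralizer_iff.2 fun e he => ?_
      have h3 := (h1 _ ((ι_mem_im (x := ⟨e, hL.le_S he⟩)).2 he)).1.2.2 _ (hQ hx)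
      rw [← map_mul, ← map_mul] at h3
      exact (congrArg Subtype.val (L.inj h3)).symm
  · rcases h4 with ⟨-, rfl, h4⟩ | ⟨-, rfl, h4⟩
    · have hpw : ∀ {x : G} (hx : x ∈ Q), L.ι ⟨x, c.Q_le_T hx⟩ ^ 3 = 1 := fun {x} hx => by
        rw [← map_pow, ← map_one L.ι]
        exact congrArg L.ι (Subtype.ext (h3 x hx))
      have hcm : ∀ {x y : G} (hx : x ∈ Q) (hy : y ∈ Q),
          L.ι ⟨x, c.Q_le_T hx⟩ * L.ι ⟨y, c.Q_le_T hy⟩ = L.ι ⟨y, c.Q_le_T hy⟩ * L.ι ⟨x, c.Q_le_T hx⟩ := fun {x y} hx hy => by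
        rw [← map_mul, ← map_mul]
        exact congrArg L.ι (Subtype.ext (h2 x hx y hy))
      refine false_of_pol c h2 h3 h4 (fun x y => ∃ (hx : x ∈ T) (hy : y ∈ T), Tp p (L.ι ⟨x, hx⟩) (L.ι ⟨y, hy⟩))
        (fun x hx => ?_) (fun x y ⟨a, b, e⟩ => ⟨b, a, e.symm⟩) (fun x hx => ?_) (fun x hx e => ?_) fun m hm x hx y hy e => ?_
      · obtain ⟨K, k1, k2⟩ := exists_cyc hp hD h.prime hrp (hpw hx)
        refine ⟨pb L K, fun y hy => ?_, fun y hy hn a ha => ?_⟩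
        · rw [coe_mem_pb (x := ⟨y, c.Q_le_T hy⟩), k1 _ (hpw hy)]
          exact ⟨fun e => ⟨_, _, e⟩, fun ⟨_, _, e⟩ => e⟩
        · obtain ⟨j, hj⟩ := k2 _ _ (hcm hy hx) (fun e => hn ((coe_mem_pb (x := ⟨y, c.Q_le_T hy⟩)).2 e)) (hcm ha hx)
          rw [← map_pow, ← map_mul] at hj
          exact ⟨j, coe_mem_pb.2 hj⟩
      · obtain ⟨g, hg⟩ := exists_conj_T hp h.prime hrp (n := 1) (by rw [pow_one]; exact hpw hx)
        exact ⟨c.Q_le_T hx, c.Q_le_T hx, g, hg, hg⟩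
      · have h5 := h1 _ ⟨hQ hx, hpw hx, by
          rintro _ ⟨y, hy, rfl⟩
          exact hcm hy hx⟩ (by
          rintro _ ⟨⟨y, hy, rfl⟩, -⟩
          obtain ⟨_, _, e'⟩ := e y hy
          exact e'.symm)
        rw [← map_one L.ι] at h5
        exact congrArg Subtype.val (L.inj h5)
      · obtain ⟨a, b, e⟩ := e
        have h5 := e.conj (L.ι ⟨m, hm.1⟩)
        rw [← map_inv, ← map_mul, ← map_mul, ← map_mul, ← map_mul] at h5
        exact ⟨h.normal.mem_comm_iff.1 (by rw [← mul_assoc, inv_mul_cancel, one_mul]; exact a),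
          h.normal.mem_comm_iff.1 (by rw [← mul_assoc, inv_mul_cancel, one_mul]; exact b), h5⟩
    · exact c.false_of_card h.isO.pg h.isO.norm (h.isO.pg.to_le h.cent) h4 (Or.inl ⟨rfl, by norm_num⟩)

end Cfsg.Agent.T44.Ex
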