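import Cfsg.Agent.T44.Ex.Tor
import Cfsg.Agent.T44.Ex.Nt
import Cfsg.Agent.T44.Mid
import Cfsg.Agent.DS.Ex.ParBox

/-!
# S3544: the exceptional groups `G₂, F₄, E₆, E₇, E₈, ²E₆, ³D₄` in cross characteristic (helper36)
-/

set_option autoImplicit false
set_option linter.unusedSectionVars false

namespace Cfsg.Agent.T44.Ex

open Cfsg Cfsg.Lie Cfsg.Agent.ChevalleyStructure Cfsg.Agent.Nodes.RGDChev Cfsg.Agent.DS.Ex Cfsg.Agent.DS.Par

theorem false_ext {D : ChevalleyDatum} {l : ℕ} {M : CoxeterMatrix (Fin l)} {hp : IsType D l M} {p : ℕ} [Fact p.Prime]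
    {G : Type} [Group G] [Finite G] {T H Q : Subgroup G} {r : ℕ} {Ya Yb : Set G} {da db : ℕ}
    (h : AS T H Q r Ya Yb da db) (hD : Typ D) (hrp : p ≠ r) {K : Type} [Group K] (f : T ≃* K) (hE : HasExtP hp p K) :
    False := by
  obtain ⟨q, m, A, hE⟩ := hE
  obtain ⟨L, h1, -, -⟩ := (hE.congr f).exists_lift h.normal h.centT
  refine false_nonTor h hD L hrp.symm ⟨(m.congr f).g, by rw [h1]; exact (m.congr f).fr⟩ fun A₀ a1 a2 => ?_
  by_contra a3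
  exact false_tor h hD L hrp.symm a3 a1 a2

theorem boxChev : BoxChev := by
  rintro - G _ _ T H Q r Ya Yb da db h ⟨p, hp, F, _, _, _, hT⟩
  have : Fact p.Prime := ⟨CharP.char_is_prime F p⟩
  rcases hT with ⟨-, ⟨f⟩⟩ | ⟨⟨f⟩⟩ | ⟨⟨f⟩⟩ | ⟨⟨f⟩⟩ | ⟨⟨f⟩⟩
  · exact h.toCfg.false_G2 hp f
  · exact false_ext h (Or.inl rfl) hp f (extP_F4 F)
  · exact false_ext h (Or.inr (Or.inl rfl)) hp f (extP_E6 F)
  · exact false_ext h (Or.inr (Or.inr (Or.inl rfl))) hp f (extP_E7 F)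
  · exact false_ext h (Or.inr (Or.inr (Or.inr rfl))) hp f (extP_E8 F)

theorem boxTw : BoxTw := by
  rintro - G _ _ T H Q r Ya Yb da db h ⟨p, hp, K, _, _, _, q, hq, hT⟩
  have : Fact p.Prime := ⟨CharP.char_is_prime K p⟩
  rcases hT with ⟨hK, ⟨f⟩⟩ | ⟨hK, ⟨f⟩⟩
  · exact false_ext h (Or.inr (Or.inl rfl)) hp f (extP_2E6 K hq hK)
  · exact h.toCfg.false_3D4 hp hq hK f

end Cfsg.Agent.T44.Ex
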