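import Cfsg.Agent.T44.Idx
import Cfsg.Agent.OddOrderCharacters.ClassSum

/-!
# S3544, exceptional groups: groups acting on finite abelian groups (helper36)

* `Fx φ A`, `card_mod`, `card_dvd_sub` : fixed points;
* `Pol r K` : a symplectic polarity `x ↦ K x` of an elementary abelian `r`-group; `Pol.card`, `Pol.card_fix`;
* `fix_bot`, `triv_of_form` : groups of order `25` acting on groups of order `2 ^ 8`, `3 ^ 8`.
-/

set_option autoImplicit false

namespace Cfsg.Agent.T44.Ex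

open Subgroup

variable {Γ V : Type*} [Group Γ] [CommGroup V] (φ : Γ →* MulAut V)

/-- the fixed points -/
def Fx (A : Subgroup Γ) : Subgroup V where
  carrier := {v | ∀ a ∈ A, φ a v = v}
  one_mem' := fun _ _ => map_one _
  mul_mem' := fun hv hw a ha => by rw [map_mul, hv a ha, hw a ha]
  inv_mem' := fun hv a ha => by rw [map_inv, hv a ha]

/-- invariant subgroups -/
def Iv (A : Subgroup Γ) (W : Subgroup V) : Prop := ∀ a ∈ A, ∀ w ∈ W, φ a w ∈ W

variable {φ}

theorem mem_Fx {A : Subgroup Γ} {v : V} : v ∈ Fx φ A ↔ ∀ a ∈ A, φ a v = v := Iff.rfl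

theorem mem_Fx_zpowers {a : Γ} {v : V} : v ∈ Fx φ (zpowers a) ↔ φ a v = v := by
  refine ⟨fun h => h a (mem_zpowers a), fun h b hb => ?_⟩
  have h1 : zpowers a ≤ (MulAction.stabilizer (MulAut V) v).comap φ := zpowers_le.2 h
  exact h1 hb

theorem Iv.inf {A : Subgroup Γ} {W W' : Subgroup V} (h : Iv φ A W) (h' : Iv φ A W') : Iv φ A (W ⊓ W') :=
  fun a ha w hw => ⟨h a ha w hw.1, h' a ha w hw.2⟩

theorem iv_Fx {A B : Subgroup Γ} (h : A ≤ normalizer (B : Set Γ)) : Iv φ A (Fx φ B) := fun a ha w hw b hb => by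
  have h1 := hw _ (conj_mem_of_norm' h ha hb)
  rw [← MulAut.mul_apply, ← map_mul, show b * a = a * (a⁻¹ * b * a) by group, map_mul, MulAut.mul_apply, h1]

variable [Finite V]

theorem card_mod {t : ℕ} (ht : t.Prime) {A : Subgroup Γ} (hA : IsPGroup t A) {W : Subgroup V} (hW : Iv φ A W) :
    Nat.card W ≡ Nat.card (W ⊓ Fx φ A : Subgroup V) [MOD t] := by
  have : Fact t.Prime := ⟨ht⟩
  letI : MulAction A W :=
    { smul := fun a w => ⟨φ a w, hW a a.2 w w.2⟩
      one_smul := fun w => Subtype.ext (by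
        show φ ((1 : A) : Γ) w = w
        rw [coe_one, map_one, MulAut.one_apply])
      mul_smul := fun a b w => Subtype.ext (by
        show φ ((a * b : A) : Γ) w = φ a (φ b w)
        rw [coe_mul, map_mul, MulAut.mul_apply]) }
  have h1 := hA.card_modEq_card_fixedPoints W
  have e : MulAction.fixedPoints A W ≃ (W ⊓ Fx φ A : Subgroup V) :=
    { toFun := fun w => ⟨w.1, w.1.2, fun a ha => congrArg Subtype.val (w.2 ⟨a, ha⟩)⟩
      invFun := fun w => ⟨⟨w.1, w.2.1⟩, fun a => Subtype.ext (w.2.2 a a.2)⟩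
      left_inv := fun _ => rfl
      right_inv := fun _ => rfl }
  rwa [Nat.card_congr e] at h1

theorem card_dvd_sub {A : Subgroup Γ} [Finite A] {W W' : Subgroup V} (hW : Iv φ A W) (hW' : Iv φ A W') (hle : W' ≤ W)
    (hf : ∀ a ∈ A, ∀ w ∈ W, φ a w = w → a = 1 ∨ w ∈ W') : Nat.card A ∣ Nat.card W - Nat.card W' := by
  classical
  have := Fintype.ofFinite V
  letI : MulAction A V := MulAction.compHom V (φ.comp A.subtype)
  have h1 := OddOrderCharacters.ClassSum.card_dvd_of_free (H := A) (X := V)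
    ((W : Set V).toFinset \ (W' : Set V).toFinset) (fun a x hx => by
      rw [Finset.mem_sdiff, Set.mem_toFinset, Set.mem_toFinset] at hx ⊢
      refine ⟨hW a a.2 x hx.1, fun h => hx.2 ?_⟩
      have h2 := hW' _ (inv_mem a.2) _ h
      change φ (a : Γ)⁻¹ (φ a x) ∈ W' at h2
      rwa [map_inv, MulAut.inv_apply_self] at h2) (fun a x hx h => by
      rw [Finset.mem_sdiff, Set.mem_toFinset, Set.mem_toFinset] at hx
      exact Subtype.ext ((hf a a.2 x hx.1 h).resolve_right hx.2))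
  rwa [Finset.card_sdiff_of_subset (Set.toFinset_mono hle), Set.toFinset_card, Set.toFinset_card,
    ← Nat.card_eq_fintype_card, ← Nat.card_eq_fintype_card] at h1

/-- a `t`-group acting on a non-trivial `t`-group has a non-trivial fixed point -/
theorem inf_Fx_ne {t : ℕ} (ht : t.Prime) {A : Subgroup Γ} (hA : IsPGroup t A) {W : Subgroup V} (hW : Iv φ A W)
    (hd : t ∣ Nat.card W) : W ⊓ Fx φ A ≠ ⊥ := by
  intro e
  have h1 := card_mod ht hA hW
  rw [e, card_bot] at h1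
  exact ht.one_lt.ne' (Nat.dvd_one.1 ((h1.dvd_iff dvd_rfl).1 hd))

/-! ### symplectic polarities -/

/-- a symplectic polarity -/
structure Pol (r : ℕ) (K : V → Subgroup V) : Prop where
  prime : r.Prime
  pow : ∀ x : V, x ^ r = 1
  symm : ∀ x y, y ∈ K x → x ∈ K y
  refl : ∀ x, x ∈ K x
  cyc : ∀ x y, y ∉ K x → ∀ c, ∃ j : ℕ, c * y ^ j ∈ K x

namespace Pol

variable {r : ℕ} {K : V → Subgroup V} (h : Pol r K)
include h

theorem idx {x y : V} {A : Subgroup V} (hy : y ∈ A) (hn : y ∉ K x) : (K x).relIndex A = r := by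
  have : Fact r.Prime := ⟨h.prime⟩
  have h1 : A ⊔ K x = zpowers y ⊔ K x := by
    refine le_antisymm (sup_le (fun c _ => ?_) le_sup_right) (sup_le_sup_right (zpowers_le.2 hy) _)
    obtain ⟨j, hj⟩ := h.cyc x y hn c
    rw [show c = (y ^ j)⁻¹ * (c * y ^ j) by rw [mul_comm c, inv_mul_cancel_left]]
    exact mul_mem (mem_sup_left (inv_mem (pow_mem (mem_zpowers y) j))) (mem_sup_right hj)
  have h2 : Nat.card (zpowers y) = r := by
    rw [Nat.card_zpowers, orderOf_eq_prime (h.pow y) fun e => hn (e ▸ one_mem _)]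
  rw [← relIndex_sup_right, h1, relIndex_sup_right]
  refine ((Nat.dvd_prime h.prime).1 (h2 ▸ relIndex_dvd_card _ _)).resolve_left fun e => hn ?_
  exact relIndex_eq_one.1 e (mem_zpowers y)

/-- non-degenerate subgroups have even rank -/
theorem card (A : Subgroup V) (hA : ∀ x ∈ A, A ≤ K x → x = 1) : ∃ k, Nat.card A = (r ^ 2) ^ k := by
  induction hn : Nat.card A using Nat.strong_induction_on generalizing A with
  | _ n ih =>
    by_cases h0 : A = ⊥
    · exact ⟨0, by rw [← hn, h0, card_bot, pow_zero]⟩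
    obtain ⟨x, hx, hx1⟩ := A.bot_or_exists_ne_one.resolve_left h0
    obtain ⟨y, hy, hyx⟩ := SetLike.not_le_iff_exists.1 fun e => hx1 (hA x hx e)
    have hxy : x ∉ K y := fun e => hyx (h.symm y x e)
    have h1 : Nat.card (A ⊓ K x : Subgroup V) * r = Nat.card A := by
      rw [← h.idx hy hyx, ← card_mul_relIndex (inf_le_left : A ⊓ K x ≤ A), inf_comm, inf_relIndex_right]
    have h2 : Nat.card (A ⊓ K x ⊓ K y : Subgroup V) * r = Nat.card (A ⊓ K x : Subgroup V) := by
      rw [← h.idx (A := A ⊓ K x) ⟨hx, h.refl x⟩ hxy, ← card_mul_relIndex (inf_le_left : A ⊓ K x ⊓ K y ≤ A ⊓ K x),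
        inf_comm (A ⊓ K x), inf_relIndex_right]
    have h3 : 0 < Nat.card (A ⊓ K x ⊓ K y : Subgroup V) := Nat.card_pos
    have h4 := h.prime.two_le
    obtain ⟨k, hk⟩ := ih (Nat.card (A ⊓ K x ⊓ K y : Subgroup V)) (by rw [← hn, ← h1, ← h2]; nlinarith)
      (A ⊓ K x ⊓ K y) (fun z hz hle => hA z hz.1.1 fun c hc => by
        obtain ⟨j, hj⟩ := h.cyc x y hyx c
        obtain ⟨i, hi⟩ := h.cyc y x hxy (c * y ^ j)
        have h5 := hle (show c * y ^ j * x ^ i ∈ A ⊓ K x ⊓ K y from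
          ⟨⟨mul_mem (mul_mem hc (pow_mem hy j)) (pow_mem hx i), mul_mem hj (pow_mem (h.refl x) i)⟩, hi⟩)
        exact (mul_mem_cancel_right (pow_mem (h.symm y z hz.2) j)).1
          ((mul_mem_cancel_right (pow_mem (h.symm x z hz.1.2) i)).1 h5)) rfl
    exact ⟨k + 1, by rw [← hn, ← h1, ← h2, hk]; ring⟩

end Pol

/-- the fixed points of an element of order prime to six -/
theorem Pol.card_fix {K : V → Subgroup V} (h : Pol 3 K) (hn : ∀ x, ⊤ ≤ K x → x = 1) {a : Γ} {t : ℕ} (ht : a ^ t = 1)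
    (h2 : Odd t) (h3 : Nat.Coprime t 3) (hK : ∀ x y, y ∈ K x → φ a y ∈ K (φ a x)) :
    ∃ k, Nat.card (Fx φ (zpowers a)) = 9 ^ k := by
  refine h.card _ fun x hx hle => hn x fun y _ => ?_
  rw [mem_Fx_zpowers] at hx
  have k1 : ∀ n : ℕ, ∀ y ∈ K x, φ (a ^ n) y ∈ K x := by
    intro n y hy
    induction n with
    | zero => rwa [pow_zero, map_one]
    | succ n ih =>
      rw [pow_succ', map_mul, MulAut.mul_apply, ← hx]
      exact hK _ _ ih
  have k2 : ∀ m n : ℕ, φ (a ^ m) y * y⁻¹ ∈ K x → φ (a ^ n) y * y⁻¹ ∈ K x → φ (a ^ (m + n)) y * y⁻¹ ∈ K x := by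
    intro m n hm hn
    have e : φ (a ^ (m + n)) y * y⁻¹ = φ (a ^ m) (φ (a ^ n) y * y⁻¹) * (φ (a ^ m) y * y⁻¹) := by
      rw [pow_add, map_mul φ, MulAut.mul_apply, map_mul, map_inv, mul_assoc, inv_mul_cancel_left]
    rw [e]
    exact mul_mem (k1 m _ hn) hm
  have k3 : ∀ m n : ℕ, φ (a ^ m) y * y⁻¹ ∈ K x → φ (a ^ (m * n)) y * y⁻¹ ∈ K x := by
    intro m n hm
    induction n with
    | zero =>
      rw [mul_zero, pow_zero, map_one, MulAut.one_apply, mul_inv_cancel]
      exact one_mem _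
    | succ n ih => exact mul_add_one m n ▸ k2 _ _ ih hm
  by_contra hy
  have k4 : φ (a ^ 1) y * y⁻¹ ∈ K x := by
    obtain ⟨j, hj⟩ := h.cyc x y hy (φ (a ^ 1) y)
    rw [← Nat.div_add_mod j 3, pow_add, pow_mul, h.pow, one_pow, one_mul] at hj
    have k5 : j % 3 = 0 ∨ j % 3 = 1 ∨ j % 3 = 2 := by omega
    obtain ⟨s, rfl⟩ := h2
    rcases k5 with e | e | e <;> rw [e] at hj
    · rw [pow_zero, mul_one] at hj
      have k6 := k1 (2 * s) _ hj
      rw [← MulAut.mul_apply, ← map_mul, ← pow_add, ht, map_one] at k6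
      exact absurd k6 hy
    · have k6 : φ (a ^ 2) y * y⁻¹ ∈ K x := by
        have e : φ (a ^ 2) y * y⁻¹ = φ (a ^ 1) (φ (a ^ 1) y * y ^ 1) * (φ (a ^ 1) y * y ^ 1)⁻¹ := by
          rw [map_mul, ← MulAut.mul_apply, ← map_mul, ← pow_add, pow_one y, mul_inv_rev, ← mul_assoc, mul_right_comm _ _ y⁻¹,
            mul_inv_cancel_right]
        rw [e]
        exact mul_mem (k1 1 _ hj) (inv_mem hj)
      have k7 := inv_mem (k1 1 _ (k3 2 s k6))
      rwa [map_mul, ← MulAut.mul_apply, ← map_mul, ← pow_add, add_comm 1, ht, map_one, MulAut.one_apply, map_inv,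
        mul_inv_rev, inv_inv] at k7
    · have e : y ^ 2 = y⁻¹ := eq_inv_of_mul_eq_one_left (by rw [← pow_succ, h.pow])
      rwa [e] at hj
  have k5 : ∏ i ∈ Finset.range t, φ (a ^ i) y ∈ K x := by
    refine hle (mem_Fx_zpowers.2 ?_)
    have e1 := Finset.prod_range_succ (fun i => φ (a ^ i) y) t
    have e2 := Finset.prod_range_succ' (fun i => φ (a ^ i) y) t
    rw [e2, ht, pow_zero] at e1
    rw [map_prod, ← mul_right_cancel e1]
    exact Finset.prod_congr rfl fun i _ => by rw [pow_succ', map_mul, MulAut.mul_apply]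
  have k6 : ∏ i ∈ Finset.range t, (φ (a ^ i) y * y⁻¹) ∈ K x :=
    prod_mem fun i _ => by simpa only [one_mul] using k3 1 i k4
  rw [Finset.prod_mul_distrib, Finset.prod_const, Finset.card_range, mul_mem_cancel_left k5, inv_pow, inv_mem_iff] at k6
  apply hy
  obtain ⟨m, hm⟩ := exists_pow_eq_self_of_coprime (x := y) (n := t) (h3.coprime_dvd_right (orderOf_dvd_of_pow_eq_one (h.pow y)))
  rw [← hm]
  exact pow_mem k6 m

/-! ### groups of order `25` -/

section five

variable {s : ℕ} (hs : s = 2 ∨ s = 3) (hV : Nat.card V = s ^ 8) {P : Subgroup Γ} (hP : Nat.card P = 25)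
  (hf : ∀ a ∈ P, (∀ v, φ a v = v) → a = 1)

theorem card_cases (hs : s = 2 ∨ s = 3) (hV : Nat.card V = s ^ 8) {W : Subgroup V} (h : Nat.card W ≡ 1 [MOD 5]) :
    W = ⊥ ∨ Nat.card W = s ^ 4 ∨ W = ⊤ := by
  have hp : s.Prime := by rcases hs with rfl | rfl <;> norm_num
  obtain ⟨k, hk, e⟩ := (Nat.dvd_prime_pow hp).1 (hV ▸ card_subgroup_dvd_card W)
  rw [← card_eq_one, ← card_eq_iff_eq_top, hV]
  rw [e] at h ⊢
  rcases hs with rfl | rfl <;> interval_cases k <;> simp_all [Nat.ModEq]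

include hs hV

theorem fix_cases {A : Subgroup Γ} (hA : IsPGroup 5 A) : Fx φ A = ⊥ ∨ Nat.card (Fx φ A) = s ^ 4 ∨ Fx φ A = ⊤ := by
  have h1 := card_mod (φ := φ) (by norm_num) hA (W := ⊤) fun _ _ _ _ => mem_top _
  rw [top_inf_eq, card_top, hV] at h1
  refine card_cases hs hV (h1.symm.trans ?_)
  rcases hs with rfl | rfl <;> decide

include hP hf

theorem fix_le {a : Γ} (ha : a ∈ P) (h1 : a ≠ 1) {W : Subgroup V} (hW : Nat.card W = s ^ 4) (hle : W ≤ Fx φ (zpowers a)) :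
    Fx φ (zpowers a) = W := by
  have h5 : IsPGroup 5 P := IsPGroup.of_card (n := 2) hP
  rcases fix_cases (φ := φ) hs hV (h5.to_le (zpowers_le.2 ha)) with e | e | e
  · rw [e, le_bot_iff] at hle
    rw [e, hle]
  · exact (eq_of_le_of_card_ge hle (by rw [e, hW])).symm
  · exact absurd (hf a ha fun v => mem_Fx_zpowers.1 (e.ge (mem_top v))) h1

/-- a faithful group of order `25` has no fixed point -/
theorem fix_bot : Fx φ P = ⊥ := by
  have h5 : IsPGroup 5 P := IsPGroup.of_card (n := 2) hP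
  have : Finite P := Nat.finite_of_card_ne_zero (by rw [hP]; norm_num)
  rcases fix_cases (φ := φ) hs hV h5 with e | e | e
  · exact e
  · have h1 := card_dvd_sub (φ := φ) (A := P) (W := ⊤) (W' := Fx φ P) (fun _ _ _ _ => mem_top _) (iv_Fx le_normalizer)
      le_top fun a ha w _ hw => by
        by_cases h1 : a = 1
        · exact Or.inl h1
        · exact Or.inr ((fix_le hs hV hP hf ha h1 e fun v hv => mem_Fx_zpowers.2 (hv a ha)).le (mem_Fx_zpowers.2 hw))
    rw [hP, card_top, hV, e] at h1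
    rcases hs with rfl | rfl <;> norm_num at h1
  · have h1 : P = ⊥ := eq_bot_iff.2 fun a ha => hf a ha fun v => e.ge (mem_top v) a ha
    rw [h1, card_bot] at hP
    norm_num at hP

theorem iv_cases {W : Subgroup V} (hW : Iv φ P W) : W = ⊥ ∨ Nat.card W = s ^ 4 ∨ W = ⊤ := by
  have h1 := card_mod (φ := φ) (by norm_num) (IsPGroup.of_card (p := 5) (n := 2) hP) hW
  rw [fix_bot hs hV hP hf, inf_bot_eq, card_bot] at h1
  exact card_cases hs hV h1

/-- an `s`-group normalised by a group of order `25` acts trivially if there is an invariant form -/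
theorem triv_of_form {C : Type*} [CommGroup C] (B : V → V →* C) (hB : ∀ g u v, B (φ g u) (φ g v) = B u v)
    (hnd : ∀ u, (∀ v, B u v = 1) → u = 1) {S : Subgroup Γ} (hS : IsPGroup s S) (hn : P ≤ normalizer (S : Set Γ)) :
    Fx φ S = ⊤ := by
  have hp : s.Prime := by rcases hs with rfl | rfl <;> norm_num
  have : Finite P := Nat.finite_of_card_ne_zero (by rw [hP]; norm_num)
  have hd : s ∣ s ^ 4 := dvd_pow_self s (by norm_num)
  by_contra hne
  set U := Fx φ S
  have hU0 : U ≠ ⊥ := by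
    have h1 := inf_Fx_ne (φ := φ) hp hS (W := ⊤) (fun _ _ _ _ => mem_top _)
      (by rw [card_top, hV]; exact dvd_pow_self s (by norm_num))
    rwa [top_inf_eq] at h1
  have hUP : Iv φ P U := iv_Fx hn
  have hU : Nat.card U = s ^ 4 := ((iv_cases hs hV hP hf hUP).resolve_left hU0).resolve_right hne
  set U' : Subgroup V := ⨅ u : U, (B u).ker with hU'
  have hm : ∀ v, v ∈ U' ↔ ∀ u ∈ U, B u v = 1 := fun v => by
    rw [hU', mem_iInf]
    exact ⟨fun h u hu => h ⟨u, hu⟩, fun h u => h u u.2⟩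
  have hiv : ∀ A : Subgroup Γ, Iv φ A U → Iv φ A U' := fun A hA a ha v hv => (hm _).2 fun u hu => by
    have h1 := (hm v).1 hv _ (hA _ (inv_mem ha) u hu)
    rwa [← hB a, map_inv, MulAut.apply_inv_self] at h1
  have hsub : ∀ g, (∀ u ∈ U, φ g u = u) → ∀ v, φ g v * v⁻¹ ∈ U' := fun g hg v => (hm _).2 fun u hu => by
    rw [map_mul, map_inv, mul_inv_eq_one, ← hB g u v, hg u hu]
  have h1 : U' ≠ ⊥ := fun e => hne (eq_top_iff.2 fun v _ a ha => by
    have h2 := hsub a (fun u hu => hu a ha) v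
    rwa [e, mem_bot, mul_inv_eq_one] at h2)
  have h2 : U' ≠ ⊤ := fun e => hU0 (eq_bot_iff.2 fun u hu => hnd u fun v => (hm v).1 (e.ge (mem_top v)) u hu)
  have h3 : Nat.card U' = s ^ 4 := ((iv_cases hs hV hP hf (hiv P hUP)).resolve_left h1).resolve_right h2
  have h4 : U' ⊓ U ≠ ⊥ := inf_Fx_ne hp hS (hiv S (iv_Fx le_normalizer)) (h3 ▸ hd)
  have h5 : Nat.card (U' ⊓ U : Subgroup V) = s ^ 4 :=
    ((iv_cases hs hV hP hf ((hiv P hUP).inf hUP)).resolve_left h4).resolve_right fun e => h2 (top_le_iff.1 (e.ge.trans inf_le_left))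
  have h6 : U' ≤ U := inf_eq_left.1 (eq_of_le_of_card_ge inf_le_left (by rw [h3, h5]))
  obtain ⟨a, ha, w, hw, haw, h7⟩ : ∃ a ∈ P, ∃ w ∈ U, φ a w = w ∧ ¬ (a = 1 ∨ w ∈ (⊥ : Subgroup V)) := by
    by_contra hc
    push Not at hc
    have h7 := card_dvd_sub hUP (W' := ⊥) (fun a _ w hw => by rw [mem_bot.1 hw, map_one]; exact one_mem _) bot_le hc
    rw [hP, hU, card_bot] at h7
    rcases hs with rfl | rfl <;> norm_num at h7
  rw [not_or] at h7
  have hc : ∀ x ∈ P, ∀ y ∈ P, x * y = y * x := fun x hx y hy => by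
    have : Fact (Nat.Prime 5) := ⟨by norm_num⟩
    exact congrArg Subtype.val (IsPGroup.commutative_of_card_eq_prime_sq (p := 5) (G := P) hP ⟨x, hx⟩ ⟨y, hy⟩)
  have h8 : Iv φ P (U ⊓ Fx φ (zpowers a)) := hUP.inf (iv_Fx (norm_of_conj fun x hx y hy => by
    rwa [hc x hx y (zpowers_le.2 ha hy), mul_inv_cancel_right]))
  have h9 : U ≤ Fx φ (zpowers a) := by
    rcases iv_cases hs hV hP hf h8 with e | e | e
    · exact absurd (e.le ⟨hw, mem_Fx_zpowers.2 haw⟩) h7.2
    · exact inf_eq_left.1 (eq_of_le_of_card_ge inf_le_left (by rw [e, hU]))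
    · exact fun v _ => (e.ge (mem_top v)).2
  refine h7.1 (hf a ha fun v => ?_)
  have k1 := h9 (h6 (hsub a (fun u hu => mem_Fx_zpowers.1 (h9 hu)) v))
  have k2 : ∀ n : ℕ, φ (a ^ n) v = (φ a v * v⁻¹) ^ n * v := by
    intro n
    induction n with
    | zero => rw [pow_zero, map_one, pow_zero, one_mul, MulAut.one_apply]
    | succ n ih =>
      rw [pow_succ', map_mul, MulAut.mul_apply, ih, map_mul, map_pow, mem_Fx_zpowers.1 k1, pow_succ, mul_assoc,
        inv_mul_cancel_right]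
  have k3 := k2 25
  have k4 : a ^ 25 = 1 := by
    have k5 : (⟨a, ha⟩ : P) ^ 25 = 1 := by rw [← hP]; exact pow_card_eq_one'
    exact congrArg Subtype.val k5
  rw [k4, map_one, MulAut.one_apply, eq_comm, mul_eq_right] at k3
  have k5 := Nat.eq_one_of_dvd_coprimes (a := 25) (b := s ^ 8) (by rcases hs with rfl | rfl <;> norm_num)
    (orderOf_dvd_of_pow_eq_one k3) (hV ▸ orderOf_dvd_natCard _)
  rwa [orderOf_eq_one_iff, mul_inv_eq_one] at k5

end five

end Cfsg.Agent.T44.Ex
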