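import Cfsg.Agent.T44.Ex.Grp
import Cfsg.Agent.DS.Ex.BN
import Cfsg.Agent.H624.TameL2
import Cfsg.Agent.S4151

/-!
# S3544, exceptional groups: split (B, N)-pairs of characteristic `p` with a normal subgroup of characteristic `r` (helper36)

`sbn_main` : `K` a normal subgroup of characteristic `r ≠ p` which contains `U`, `Q = O_r(K)`.  Then the group is soluble,
and for `p ≤ 3` the index `|K : Q|` has no prime divisor `≥ 5`.
-/

set_option autoImplicit false
set_option linter.unusedSectionVars false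

namespace Cfsg.Agent.T44.Ex

open Subgroup Cfsg Cfsg.Agent.DS.Cl Cfsg.Agent.BpExc.TitsRed Cfsg.Agent.LieExceptional Cfsg.Agent.DS.Ex.BN
open scoped commutatorElement

/-- the automorphisms of cyclic and quaternion groups -/
theorem not_dvd_aut {X : Type*} [Group X] [Finite X] {p n : ℕ} [Fact p.Prime] (hp : p = 2 ∨ p = 3) (hn : n.Prime)
    (h5 : 5 ≤ n) (hX : IsPGroup p X) (h : ∀ A : Subgroup X, IsMulCommutative A → IsCyclic A) :
    ¬ n ∣ Nat.card (MulAut X) := by
  have key : ∀ a b : ℕ, ¬ n ∣ 2 ^ a * 3 ^ b := fun a b e => by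
    rcases (Nat.Prime.dvd_mul hn).1 e with e | e
    · have := Nat.le_of_dvd (by norm_num) (hn.dvd_of_dvd_pow e)
      omega
    · have := Nat.le_of_dvd (by norm_num) (hn.dvd_of_dvd_pow e)
      omega
  rcases Solvable.UniqueOrderP.cyclic_or_quaternion hX (S4151.uniqueP_of_comm hX h) with hc | ⟨rfl, m, -, ⟨e⟩⟩
  · obtain ⟨k, hk⟩ := IsPGroup.iff_card.1 hX
    rw [IsCyclic.card_mulAut, hk]
    rcases k with _ | k
    · simpa using hn.one_lt.ne'
    rw [Nat.totient_prime_pow_succ Fact.out]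
    rcases hp with rfl | rfl
    · simpa using key k 0
    · simpa [mul_comm] using key 1 k
  · have : NeZero (2 ^ m) := ⟨by positivity⟩
    obtain ⟨a, ha⟩ := H624.TameL2.card_aut hX (zpowers (e.symm (QuaternionGroup.a 1))) inferInstance (by
      have h1 := card_mul_index (zpowers (e.symm (QuaternionGroup.a 1)))
      rw [Nat.card_zpowers, MulEquiv.orderOf_eq, QuaternionGroup.orderOf_a_one, Nat.card_congr e.toEquiv,
        Nat.card_eq_fintype_card, QuaternionGroup.card] at h1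
      have h2 : 0 < 2 ^ m := by positivity
      nlinarith)
    exact fun e' => key a 1 (by simpa using e'.trans ha)

variable {G : Type*} [Group G] [Finite G] {P : BNPair G}

/-- the section `V / C` -/
theorem exists_V {t : G} (ht : t ∈ P.S) {Q : Subgroup G} [Q.Normal] (hQ : t ∈ Q ⊔ P.B) {N : ℕ} (hN : dS Q N = ⊥) :
    ∃ V C : Subgroup G, V.Normal ∧ C.Normal ∧ C ≤ P.parabolic (P.S \ {t}) ∧ ⁅V, V⁆ ≤ C ∧ t ∈ V ⊔ P.B ∧
      ¬ V ≤ C ∧ V ⊓ P.parabolic (P.S \ {t}) ≤ C := by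
  classical
  set Pt := P.parabolic (P.S \ {t}) with hPt
  set C := Pt.normalCore with hC
  have htP : t ∉ Pt := fun h => ((BNPairCore.mem_parabolic_gen_iff Set.sdiff_subset ht).1 h).2 rfl
  have h1 : ∃ k, dS Q k ≤ C := ⟨N, hN.le.trans bot_le⟩
  have h2 : Nat.find h1 ≠ 0 := by
    intro h0
    have h3 := Nat.find_spec h1
    rw [h0] at h3
    exact htP ((sup_le (h3.trans (normalCore_le Pt)) le_sup_left : Q ⊔ P.B ≤ Pt) hQ)
  obtain ⟨k, hk⟩ := Nat.exists_eq_succ_of_ne_zero h2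
  have h3 : dS Q (k + 1) ≤ C := by
    have := Nat.find_spec h1
    rwa [hk] at this
  have h4 : ¬ dS Q k ≤ C := Nat.find_min h1 (by omega)
  have hn : ∀ j, (dS Q j).Normal := fun j => by
    induction j with
    | zero => assumption
    | succ j ih => exact commutator_normal _ _
  have := hn k
  have hVV : ⁅C ⊔ dS Q k, C ⊔ dS Q k⁆ ≤ C := (H936.commutator_sup_normal C _).trans (sup_le le_rfl h3)
  have hV : ¬ C ⊔ dS Q k ≤ C := fun h => h4 (le_sup_right.trans h)
  have htV : t ∈ C ⊔ dS Q k ⊔ P.B := by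
    by_contra h
    exact hV (normal_le_normalCore.2 (SBN.le_max h))
  refine ⟨C ⊔ dS Q k, C, inferInstance, inferInstance, normalCore_le Pt, hVV, htV, hV, ?_⟩
  set V := C ⊔ dS Q k with hVdef
  have h5 : (V ⊓ Pt).Normal := by
    rw [← normalizer_eq_top_iff]
    have a1 : Pt ≤ normalizer ((V ⊓ Pt : Subgroup G) : Set G) := norm_inf (norm_normal _ _) le_normalizer
    have a2 : V ≤ normalizer ((V ⊓ Pt : Subgroup G) : Set G) := norm_of_conj fun g hg x hx => by
      refine ⟨V.mul_mem (V.mul_mem hg hx.1) (V.inv_mem hg), ?_⟩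
      have e : g * x * g⁻¹ = ⁅g, x⁆ * x := by rw [commutatorElement_def]; group
      rw [e]
      exact mul_mem (normalCore_le Pt (hVV (commutator_mem_commutator hg hx.1))) hx.2
    refine top_le_of (P := P) (le_trans le_sup_left a1) fun s hs => ?_
    by_cases hst : s = t
    · subst hst
      exact (sup_le a2 (le_trans le_sup_left a1) : V ⊔ P.B ≤ _) htV
    · exact a1 (mem_sup_right (subset_closure ⟨hs, hst⟩))
  exact normal_le_normalCore.2 inf_le_right

variable {p : ℕ} [Fact p.Prime] {U H : Subgroup G} {X : G → Subgroup G} (D : SBN P p U H X)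

include D

theorem rank_one {t : G} (ht : t ∈ P.S) {Q : Subgroup G} [Q.Normal] (hQ : t ∈ Q ⊔ P.B) {N : ℕ} (hN : dS Q N = ⊥) :
    Iso P t ∧ ∀ A : Subgroup (X t), IsMulCommutative A → IsCyclic A := by
  obtain ⟨V, C, hVn, hCn, hC, hVV, htV, hV, hVC⟩ := exists_V ht hQ hN
  have hi := SBN.iso_of ht hC htV hVC
  refine ⟨hi, fun A hA => ?_⟩
  by_contra hcyc
  obtain ⟨a, -, ha1, _, ⟨v, hv, rfl⟩, hv1, e⟩ := H456.exists_fixed_of_not_cyclic
    ((MulAut.conj.comp (QuotientGroup.mk' C)).comp (X t).subtype) (V.map (QuotientGroup.mk' C)) (by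
      rintro _ ⟨a, ha, rfl⟩ _ ⟨b, hb, rfl⟩
      rw [← commutatorElement_eq_one_iff_mul_comm, ← map_commutatorElement]
      exact (QuotientGroup.eq_one_iff _).2 (hVV (commutator_mem_commutator ha hb)))
    (by rwa [Ne, Subgroup.map_eq_bot_iff, QuotientGroup.ker_mk']) A
    (fun a ha b hb => congrArg Subtype.val (hA.is_comm.comm ⟨a, ha⟩ ⟨b, hb⟩)) hcyc (by
      rintro a - _ ⟨v, hv, rfl⟩
      exact ⟨a * v * (a : G)⁻¹, hVn.conj_mem v hv a, rfl⟩)
  refine ha1 (Subtype.ext (D.free_V ht hi hC hVC a.2 hv (fun h => hv1 ((QuotientGroup.eq_one_iff _).2 h)) ?_))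
  rw [← QuotientGroup.eq]
  exact e.symm

/-- the decomposition of `U` along a set of isolated nodes -/
theorem dec_U (F : Finset G) : (∀ t ∈ F, t ∈ P.S ∧ Iso P t) → (F.sup (LL X)).Normal ∧
    ∀ u ∈ U, ∃ v ∈ U, v ∈ centralizer ((F.sup (LL X) : Subgroup G) : Set G) ∧ ∃ n ∈ F.sup X, u = v * n := by
  classical
  induction F using Finset.induction_on with
  | empty =>
    intro _
    rw [Finset.sup_empty]
    refine ⟨inferInstance, fun u hu => ⟨u, hu, ?_, 1, one_mem _, (mul_one u).symm⟩⟩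
    rw [mem_centralizer_iff]
    intro x hx
    rw [SetLike.mem_coe, mem_bot] at hx
    rw [hx, one_mul, mul_one]
  | insert t F htF ih =>
    intro hF
    obtain ⟨ih1, ih3⟩ := ih fun s hs => hF s (Finset.mem_insert_of_mem hs)
    obtain ⟨ht, hi⟩ := hF t (Finset.mem_insert_self t F)
    have hL := D.normal ht hi
    have hX : X t ≤ centralizer ((F.sup (LL X) : Subgroup G) : Set G) := by
      rw [le_centralizer_iff]
      refine Finset.sup_le fun s hs => ?_
      obtain ⟨hs1, hs2⟩ := hF s (Finset.mem_insert_of_mem hs)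
      rw [le_centralizer_iff]
      exact D.cen s hs1 hs2 t ht (fun e => htF (e ▸ hs))
    rw [Finset.sup_insert, Finset.sup_insert]
    refine ⟨inferInstance, fun u hu => ?_⟩
    obtain ⟨v, hv, hvc, n, hn, rfl⟩ := ih3 u hu
    obtain ⟨w, hw, x, hx, rfl, hwc⟩ := D.dec t ht hi v hv
    refine ⟨w, hw, ?_, x * n, mul_mem (mem_sup_left hx) (mem_sup_right hn), mul_assoc _ _ _⟩
    have h5 : w ∈ centralizer ((F.sup (LL X) : Subgroup G) : Set G) := by
      have := mul_mem hvc (inv_mem (hX hx))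
      rwa [mul_inv_cancel_right] at this
    have h6 : LL X t ⊔ F.sup (LL X) ≤ centralizer ({w} : Set G) := by
      refine sup_le (fun y hy => ?_) fun y hy => ?_
      · exact mem_centralizer_singleton_iff.2 (mem_centralizer_iff.1 hwc y hy)
      · exact mem_centralizer_singleton_iff.2 (mem_centralizer_iff.1 h5 y hy)
    rw [mem_centralizer_iff]
    exact fun y hy => mem_centralizer_singleton_iff.1 (h6 hy)

/-- **A normal subgroup of characteristic `r`.** -/
theorem sbn_main {K Q : Subgroup G} [K.Normal] (hU : U ≤ K) {r : ℕ} (hc : Cl.Ch r K Q) (hrp : r ≠ p) :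
    Group.IsSolvable G ∧ (p = 2 ∨ p = 3 → ∀ n : ℕ, n.Prime → 5 ≤ n → ¬ n ∣ Q.relIndex K) := by
  classical
  have := Fact.mk hc.prime
  have hQn : Q.Normal := normalizer_eq_top_iff.1 (top_le_iff.1 ((norm_normal ⊤ K).trans hc.isO.norm_le))
  obtain ⟨N, hN⟩ : ∃ N, dS Q N = ⊥ := by
    obtain ⟨N, hN⟩ := hc.sol_Q
    exact ⟨N, by rw [← DS.Cl.map_derivedSeries_eq, hN, Subgroup.map_bot]⟩
  set F := (Set.toFinite {t | t ∈ P.S ∧ t ∈ Q ⊔ P.B}).toFinset with hF
  have hFm : ∀ t, t ∈ F ↔ t ∈ P.S ∧ t ∈ Q ⊔ P.B := fun t => Set.Finite.mem_toFinset _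
  have hr1 := fun t (ht : t ∈ F) => rank_one D ((hFm t).1 ht).1 ((hFm t).1 ht).2 hN
  obtain ⟨hn, hdec⟩ := dec_U D F fun t ht => ⟨((hFm t).1 ht).1, (hr1 t ht).1⟩
  have hBU : P.B ≤ normalizer (U : Set G) := norm_of_conj D.norm
  have h0 : U ⊓ centralizer ((F.sup (LL X) : Subgroup G) : Set G) = ⊥ := by
    set U' := U ⊓ centralizer ((F.sup (LL X) : Subgroup G) : Set G) with hU'
    have a1 : F.sup (LL X) ⊔ P.B ≤ normalizer (U' : Set G) :=
      sup_le ((le_centralizer_iff.1 inf_le_right).trans (centralizer_le_normalizer _)) (norm_inf hBU (norm_normal _ _))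
    have a2 : Q ≤ normalizer (U' : Set G) := by
      refine le_trans le_sup_left ((BNPairCore.eq_parabolic (P := P) (M := Q ⊔ P.B) le_sup_right).le.trans
        (le_trans (sup_le le_sup_right ((closure_le _).2 fun t ht => ?_)) a1))
      exact sup_le_sup_right (Finset.le_sup (f := LL X) ((hFm t).2 ht)) _ (D.mem_sup ht.1 (hr1 t ((hFm t).2 ht)).1)
    have a3 : Q ⊓ U' = ⊥ := (IsPGroup.disjoint_of_ne r p hrp _ _ hc.isO.pg (D.pU.to_le inf_le_left)).eq_bot
    have a4 : ⁅U', Q⁆ = ⊥ := by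
      rw [eq_bot_iff, ← a3]
      exact le_inf (commutator_le_right _ _) (commutator_le_left_of_norm a2)
    rw [← a3, eq_comm, inf_eq_right]
    exact (le_inf (inf_le_left.trans hU) (commutator_eq_bot_iff_le_centralizer.1 a4)).trans hc.cent
  have hS : ∀ s ∈ P.S, s ∈ F := fun s hs => by
    by_contra h1
    have h2 : X s = ⊥ := by
      rw [eq_bot_iff, ← h0]
      refine le_inf (D.le s hs) (le_centralizer_iff.1 (Finset.sup_le fun t ht => le_centralizer_iff.1 ?_))
      exact D.cen t ((hFm t).1 ht).1 (hr1 t ht).1 s hs fun e => h1 (e ▸ ht)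
    have h3 := D.gen s hs
    rw [h2, coe_bot, normalClosure_eq_bot_iff.2 le_rfl, bot_sup_eq] at h3
    exact h1 ((hFm s).2 ⟨hs, mem_sup_right h3⟩)
  have htop : Q ⊔ P.B = ⊤ := top_le_of (P := P) le_sup_right fun s hs => ((hFm s).1 (hS s hs)).2
  refine ⟨?_, fun hp n hn5 h5 => ?_⟩
  · have h1 := Cl.sol_of_map (K := ⊤) (QuotientGroup.mk' Q) (by
      rw [QuotientGroup.ker_mk', top_inf_eq]; exact hc.sol_Q) (by
      rw [← htop, Subgroup.map_sup, (Subgroup.map_eq_bot_iff _).2 (QuotientGroup.ker_mk' Q).ge, bot_sup_eq]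
      exact Cl.sol_map _ D.solv)
    exact Group.isSolvable_of_surjective (f := (⊤ : Subgroup G).subtype) fun x => ⟨⟨x, mem_top x⟩, rfl⟩
  obtain ⟨Z, hZ⟩ := exists_syl' hn5 H
  have hZm : ∀ h ∈ H, ∀ k : ℕ, h ^ n ^ k = 1 → h ∈ Z := fun h hh k hk =>
    hZ.le_of_norm hn5 ((zpowers_le).2 hh) (norm_of_conj fun a ha x hx => by
      rw [D.Hc a ha x ((zpowers_le).2 hh hx), mul_inv_cancel_right]; exact hx) (isPGroup_zpowers hk) (mem_zpowers h)
  have hXZ : ∀ t ∈ F, X t ≤ centralizer (Z : Set G) := fun t ht x hx => mem_centralizer_iff.2 fun z hz => by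
    have ht' := ((hFm t).1 ht).1
    have a1 : H ≤ normalizer (X t : Set G) := norm_of_conj (D.HX t ht')
    obtain ⟨k, hk⟩ := hZ.pg ⟨z, hz⟩
    have a2 : (X t).normalizerMonoidHom ⟨z, a1 (hZ.le hz)⟩ ^ n ^ k = 1 := by
      rw [← map_pow, ← map_one (X t).normalizerMonoidHom]
      exact congrArg _ (Subtype.ext (show z ^ n ^ k = 1 from congrArg Subtype.val hk))
    have a3 := Nat.eq_one_of_dvd_coprimes (((Nat.Prime.coprime_iff_not_dvd hn5).2
      (not_dvd_aut hp hn5 h5 (D.pU.to_le (D.le t ht')) (hr1 t ht).2)).pow_left k) (orderOf_dvd_of_pow_eq_one a2)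
      (orderOf_dvd_natCard _)
    have a4 := congrArg Subtype.val (DFunLike.congr_fun (orderOf_eq_one_iff.1 a3) ⟨x, hx⟩)
    exact mul_inv_eq_iff_eq_mul.1 (show z * x * z⁻¹ = x from a4)
  have hUZ : U ≤ centralizer (Z : Set G) := fun u hu => by
    obtain ⟨v, hv, hvc, m, hm, rfl⟩ := hdec u hu
    rw [mem_bot.1 (h0.le ⟨hv, hvc⟩), one_mul]
    exact Finset.sup_le hXZ hm
  have hZn : Z.Normal := by
    rw [← normalizer_eq_top_iff]
    refine top_le_of (P := P) (fun b hb => ?_) fun s hs => ?_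
    · obtain ⟨u, hu, h, hh, rfl⟩ := D.B_eq b hb
      exact centralizer_le_normalizer _ (mul_mem (hUZ hu) (mem_centralizer_iff.2 fun z hz => D.Hc z (hZ.le hz) h hh))
    · rw [← inv_mem_iff]
      refine mem_normalizer_fintype fun z hz => ?_
      obtain ⟨k, hk⟩ := hZ.pg ⟨z, hz⟩
      refine hZm _ (by rw [inv_inv]; exact D.sH s hs z (hZ.le hz)) k ?_
      rw [conj_pow, show z ^ n ^ k = 1 from congrArg Subtype.val hk, mul_one, mul_inv_cancel]
  have h1 : Z ⊓ K ≤ Q := hc.le_of_comm inf_le_right (norm_normal _ _) fun a ha b hb => D.Hc a (hZ.le ha.1) b (hZ.le hb.1)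
  have h2 : (Q ⊔ Z) ⊓ K = Q := by
    refine le_antisymm (fun x hx => ?_) (le_inf le_sup_left hc.isO.le)
    obtain ⟨q, hq, z, hz, rfl⟩ := mem_sup_of_normal_left.1 hx.1
    exact mul_mem hq (h1 ⟨hz, (mul_mem_cancel_left (hc.isO.le hq)).1 hx.2⟩)
  have hW : (Q ⊔ Z ⊔ U).Normal := by
    rw [← normalizer_eq_top_iff, eq_top_iff, ← htop]
    exact sup_le ((le_sup_left.trans le_sup_left).trans le_normalizer) (norm_sup (norm_normal _ _) hBU)
  have h3 : H ⊔ (Q ⊔ Z ⊔ U) = ⊤ := by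
    rw [eq_top_iff, ← htop]
    refine sup_le ((le_sup_left.trans le_sup_left).trans le_sup_right) fun b hb => ?_
    obtain ⟨u, hu, h, hh, rfl⟩ := D.B_eq b hb
    exact mul_mem (mem_sup_right (mem_sup_right hu)) (mem_sup_left hh)
  rw [← h2, inf_relIndex_right]
  intro h4
  have h6 := h4.trans (relIndex_dvd_index_of_normal _ _)
  rw [← relIndex_mul_index (le_sup_left : Q ⊔ Z ≤ Q ⊔ Z ⊔ U), hn5.dvd_mul] at h6
  rcases h6 with h6 | h6
  · exact not_dvd_relIndex_sup hn5 Fact.out (by omega) D.pU (norm_normal _ _) h6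
  · rw [← relIndex_top_right, ← h3, relIndex_sup_right] at h6
    exact hZ.idx (h6.trans (relIndex_dvd_of_le_left _ (le_sup_right.trans le_sup_left)))

end Cfsg.Agent.T44.Ex
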