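import Cfsg.Agent.T44.Ex.BN
import Cfsg.Agent.T44.Cl.Key1
import Cfsg.Agent.DS.Ex.TorMain
import Cfsg.Agent.H605.MX.Orb
import Cfsg.Agent.BpExc.Orbit

/-!
# S3544, exceptional groups: the fixed points of `σ` in `M(S) T` (helper36)

* `not_sol` : for `p ≥ 5` and `S ≠ ∅` the group of fixed points is not soluble;
* `fix_ch` : a normal subgroup `K` of characteristic `r ≠ p` which contains the `p`-elements: `|K : O_r(K)|` has no prime
  divisor `≥ 5`.
-/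

set_option autoImplicit false
set_option linter.unusedSectionVars false

namespace Cfsg.Agent.T44.Ex

open CoxeterSystem Cfsg Cfsg.Lie Cfsg.Lie.ChevalleyDatum
open Cfsg.Agent.ChevalleyStructure Cfsg.Agent.ChevalleyStructure.Elts Cfsg.Agent.ChevalleyStructure.CoxeterGeom
  Cfsg.Agent.ChevalleyStructure.CoxeterGeomTypes
open Cfsg.Agent.Tits.Roots Cfsg.Agent.Tits.Core Cfsg.Agent.Nodes Cfsg.Agent.Nodes.Reps Cfsg.Agent.Nodes.BNOf
  Cfsg.Agent.Nodes.RGDChev Cfsg.Agent.Nodes.Bruhat Cfsg.Agent.Nodes.NormalForm Cfsg.Agent.Nodes.Coroot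
open Cfsg.Agent.KFacts.RgdField Cfsg.Agent.KFacts.RgdChevCoord
open Cfsg.Agent.BpExc Cfsg.Agent.BpExc.TorCent Cfsg.Agent.BpExc.TorChev Cfsg.Agent.BpExc.Tow
  Cfsg.Agent.BpExc.TowChev Cfsg.Agent.BpExc.Fr Cfsg.Agent.BpExc.LangFr Cfsg.Agent.BpExc.Zc Cfsg.Agent.BpExc.RelBN
  Cfsg.Agent.BpExc.SubBN Cfsg.Agent.GpExc.Field
open Cfsg.Agent.ChevalleyStructure.SL2Hom (up lo mem_closure_SL2)
open Cfsg.Agent.Nodes.RGDFold Cfsg.Agent.Nodes.RGDFoldSL
open Cfsg.Agent.H469.Exc Cfsg.Agent.H129.TorusChar Cfsg.Agent.DS.Nt Cfsg.Agent.DS.Ex Cfsg.Agent.DS.Ex.Tor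
open Cfsg.Agent.H81.TorOrth Cfsg.Agent.H605.MX

variable {D : ChevalleyDatum} {l : ℕ} {M : CoxeterMatrix (Fin l)} {hp : IsType D l M} {p : ℕ} [Fact p.Prime]
  {S : Set (Fin l → ℤ)} {e : ℕ} {σ : MulAut (YY D p)} {g : (Fin l → ℤ) ≃+ (Fin l → ℤ)}

theorem so_of {a b : Fin l → ℤ} (ha : RT hp a) (h0 : 0 ≤ a) (h0' : 0 ≤ b) (hab : b ≠ a)
    (h1 : ∀ m n : ℕ, 0 < m → 0 < n → ¬ RT hp (m • a + n • b)) (h2 : cpr M.toCoxeterSystem hp.isCartan b a = 0) :
    SO M.toCoxeterSystem hp.isCartan a b := by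
  have := finW hp
  have k1 : ∀ i j : ℤ, RT hp (i • a + j • b) → RT hp ((-i) • a + j • b) := fun i j h => by
    have h3 := isRoot_refl _ _ h ha
    rw [cpr_add _ _ _ _ ha, cpr_smul _ _ _ _ ha, cpr_smul _ _ _ _ ha, cpr_self _ _ ha, h2] at h3
    convert h3 using 1
    module
  have k2 : ∀ i j : ℤ, RT hp (i • a + j • b) → RT hp ((-i) • a + (-j) • b) := fun i j h => by
    convert h.neg using 1
    module
  have k3 : ∀ i j : ℤ, 0 < i → 0 < j → ¬ RT hp (i • a + j • b) := fun i j hi hj h => by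
    obtain ⟨m, rfl⟩ := Int.eq_ofNat_of_zero_le hi.le
    obtain ⟨n, rfl⟩ := Int.eq_ofNat_of_zero_le hj.le
    rw [natCast_zsmul, natCast_zsmul] at h
    exact h1 m n (by exact_mod_cast hi) (by exact_mod_cast hj) h
  refine ⟨hab.symm, fun h => ha.not_pos_neg h0 (by rw [h]; exact neg_nonpos.2 h0'), fun i j hi hj h => ?_⟩
  rcases hi.lt_or_gt with hi | hi <;> rcases hj.lt_or_gt with hj | hj
  · exact k3 _ _ (by omega) (by omega) (k2 _ _ h)
  · exact k3 _ _ (by omega) hj (k1 _ _ h)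
  · exact k3 _ _ (by omega) (by omega) (k1 _ _ (k2 _ _ h))
  · exact k3 _ _ hi hj h

theorem ps_mem {s : ℕ} (hs : s < D.nroots) (hn : ∀ a ∈ S, -a ∈ S) (h : vec D l s ∈ S)
    (x : Matrix.SpecialLinearGroup (Fin 2) (KK p)) : ps hp hs x ∈ MS D p S := by
  have h1 : Subgroup.closure (Set.range (up (F := KK p)) ∪ Set.range (lo (F := KK p))) ≤
      (MS D p S).comap (ps hp hs) := by
    rw [Subgroup.closure_le]
    rintro _ (⟨b, rfl⟩ | ⟨b, rfl⟩)
    · show ps hp hs (up b) ∈ MS D p S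
      rw [ps_up]
      exact RGD.le_Sup h (xs_mem hp hs b)
    · show ps hp hs (lo b) ∈ MS D p S
      rw [ps_lo]
      exact RGD.le_Sup (hn _ h) (by rw [← vec_neg hp hs]; exact xs_mem hp (NPerm.neg_lt hp.inList hs) b)
  exact h1 (mem_closure_SL2 x)

/-- **A subgroup `SL₂`.** -/
theorem not_sol (he : 0 < e) (hσ : IsFrob p e σ) (F : FR hp p σ g) {w : M.Group}
    (dat : Orbit.Dat M.toCoxeterSystem hp.isCartan S g w) {b : Fin l → ℤ}
    (hb : b ∈ Orbit.Psi M.toCoxeterSystem hp.isCartan S w) (h4 : 4 ≤ p) :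
    ¬ Group.IsSolvable ↥(DD D p S ⊓ fixedSubgroup σ) := by
  have := finW hp
  obtain ⟨a, ha, ⟨N, hN, hper⟩, h1, h2⟩ := dat.exists_root hb
  obtain ⟨s, hs, rfl⟩ := (isRoot_iff hp M.toCoxeterSystem a).1 (dat.root a ha.1)
  have hn0 : 0 < Function.minimalPeriod g (vec D l s) := Function.IsPeriodicPt.minimalPeriod_pos hN hper
  set n := Function.minimalPeriod g (vec D l s) with hn
  have hθ : g^[n] (vec D l s) = vec D l s := Function.iterate_minimalPeriod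
  have hSO : ∀ i, 0 < i → i < n → SO M.toCoxeterSystem hp.isCartan (vec D l s) (g^[i] (vec D l s)) := fun i hi hin => by
    have h3 : g^[i] (vec D l s) ≠ vec D l s := fun e =>
      absurd (Function.IsPeriodicPt.minimalPeriod_le hi e) (not_le.2 hin)
    have h5 := dat.iter_mem ha i
    exact so_of (hp := hp) (dat.root _ ha.1) ha.2.1 h5.2.1 h3 (h1 0 i h3.symm) (h2 i h3)
  have hen : e * n ≠ 0 := Nat.mul_ne_zero he.ne' hn0.ne'
  let _ := Fintype.ofFinite (GaloisField p (e * n))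
  have hE : Fintype.card (GaloisField p (e * n)) = (p ^ e) ^ n := by
    rw [← Nat.card_eq_fintype_card, GaloisField.card p _ hen, pow_mul]
  have hq : 4 ≤ Fintype.card (GaloisField p (e * n)) := by
    rw [hE, ← pow_mul]
    exact h4.trans (Nat.le_self_pow hen p)
  let j : GaloisField p (e * n) →+* KK p := (IsAlgClosed.lift : GaloisField p (e * n) →ₐ[ZMod p] KK p)
  obtain ⟨ψ, k1, k2, k3, -⟩ := exists_psi hp M.toCoxeterSystem (locFin p) hσ F hs (by omega) hθ hSO hE j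
  have hm : ∀ x, ψ x ∈ DD D p S ⊓ fixedSubgroup σ := fun x => ⟨Subgroup.mem_sup_left (by
    obtain ⟨x', e'⟩ := k2 x
    rw [e']
    refine dl_mem fun i _ => ?_
    obtain ⟨s', hs', a1, a2⟩ := pow_ps hp M.toCoxeterSystem (locFin p) hσ F hs i
    obtain ⟨y, hy⟩ := a2 x'
    rw [hy]
    exact ps_mem hs' (fun _ => dat.neg) (a1 ▸ (dat.iter_mem ha i).1) y), k1 x⟩
  rintro ⟨k, hk⟩
  have h5 : ∀ k, derivedSeries (Matrix.SpecialLinearGroup (Fin 2) (GaloisField p (e * n))) k = ⊤ := fun k => by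
    induction k with
    | zero => rfl
    | succ k ih => rw [derivedSeries_succ, ih]; exact Cl.sl2_perfect hq
  have h6 := map_derivedSeries_le_derivedSeries (ψ.codRestrict _ hm) k
  rw [h5, hk] at h6
  obtain ⟨c, hc, hc'⟩ := DS.Cl.Vec.exists_sq_ne hq
  have h7 : ψ (hS c) = 1 := congrArg Subtype.val (Subgroup.mem_bot.1 (h6 ⟨hS c, trivial, rfl⟩))
  have h8 := cX_hTh hp M.toCoxeterSystem (locFin p) hσ F hs n ((map_ne_zero j).2 hc) (vec D l s)
  rw [← k3 c hc, h7, cX_one, Finset.sum_eq_single_of_mem 0 (Finset.mem_range.2 hn0) fun i hi hi0 => by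
    by_contra h9
    have h10 := isRoot_refl _ _ (dat.root _ ha.1) (dat.root _ (dat.iter_mem ha i).1)
    refine (hSO i (Nat.pos_of_ne_zero hi0) (Finset.mem_range.1 hi)).2.2 1 _ one_ne_zero
      (neg_ne_zero.2 (right_ne_zero_of_mul h9)) ?_
    rwa [one_smul, neg_smul, ← sub_eq_add_neg], pow_zero, one_mul, Function.iterate_zero, id,
    cpr_self _ _ (dat.root _ ha.1), zpow_ofNat, ← map_pow, ← map_one j] at h8
  exact hc' (j.injective h8).symm

/-- **A normal subgroup of characteristic `r`.** -/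
theorem fix_ch (hS : CS hp S) (hcomb : ∀ a ∈ S, ∀ b ∈ S, ∀ i j : ℤ, RT hp (i • a + j • b) → i • a + j • b ∈ S)
    (hne : S.Nonempty) (he : 0 < e) (hσ : IsFrob p e σ) (F : FR hp p σ g) (P : Pres S g) [Finite ↥(fixedSubgroup σ)]
    {X : Type*} [Group X] {j : X →* YY D p} (hj : Function.Injective j) (h1 : j.range ≤ DD D p S ⊓ fixedSubgroup σ)
    (h2 : ∀ y ∈ DD D p S ⊓ fixedSubgroup σ, ∀ x ∈ j.range, y * x * y⁻¹ ∈ j.range)
    (h3 : ∀ u ∈ MS D p S, σ u = u → (∃ k : ℕ, u ^ p ^ k = 1) → u ∈ j.range) {Q : Subgroup X} {r : ℕ}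
    (hc : Cl.Ch r ⊤ Q) (hrp : r ≠ p) {n : ℕ} (hn : n.Prime) (h5 : 5 ≤ n) : ¬ n ∣ Q.index := by
  have := finW hp
  obtain ⟨E, k1, k2, k3⟩ := level hS he hσ F P
  have hZ := EndInst.commZ hp M.toCoxeterSystem E
  obtain ⟨lam, hlam, hpos⟩ := k1.exists_lam hS.cl
  have hfix := FixEnd.fx k1 hZ hS.cl hS.neg hlam hpos k2
  have hopp := FixRel.exists_opp k1 hZ hS.cl hS.neg hlam hpos hfix
  set Dr := FixRel.rel k1 hZ hS.cl hS.neg hlam hpos hfix with hDr
  have hfin : Finite ↥(FixRel.Gf (Tj hp E) (Xj hp E) S σ) :=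
    Finite.of_injective (Subgroup.inclusion (inf_le_right : FixRel.Gf (Tj hp E) (Xj hp E) S σ ≤ fixedSubgroup σ))
      (Subgroup.inclusion_injective _)
  have hTE : Tj hp E ≤ TT D (KK p) := by rw [← TLe hp p]; exact le_TL E
  have hT : ∀ a ∈ Tj hp E, ∀ b ∈ Tj hp E, a * b = b * a := fun a ha b hb => TT_comm hp a (hTE ha) b (hTE hb)
  have B := RelPS.sbn Dr hZ hS.cl hT hopp
  rw [← k3] at h1 h2
  let j' : X →* FixRel.Gf (Tj hp E) (Xj hp E) S σ := j.codRestrict _ fun x => h1 ⟨x, rfl⟩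
  have hj' : Function.Injective j' := fun x y h => hj (congrArg Subtype.val h)
  have hK : ((⊤ : Subgroup X).map j').Normal := ⟨by
    rintro _ ⟨x, -, rfl⟩ y
    obtain ⟨z, hz⟩ := h2 y y.2 _ ⟨x, rfl⟩
    exact ⟨z, trivial, Subtype.ext hz⟩⟩
  obtain ⟨a1, a2⟩ := sbn_main B (K := (⊤ : Subgroup X).map j') (fun u hu => by
    obtain ⟨k, hk⟩ := B.pU ⟨u, hu⟩
    obtain ⟨z, hz⟩ := h3 u (RGD.Sup_mono (S := Sp S) (S' := S) (fun a ha => ha.1) (Sup_level_le E _ hu)) u.2.2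
      ⟨k, congrArg Subtype.val (congrArg Subtype.val hk)⟩
    exact ⟨z, trivial, Subtype.ext hz⟩) ((Cl.ch_map_iff hj').2 hc) hrp
  by_cases h4 : 4 ≤ p
  · obtain ⟨v, hv, y, hy, b1, b2⟩ := hopp
    obtain ⟨b, hb⟩ : (Sp S).Nonempty := by
      obtain ⟨a, ha⟩ := hne
      rcases (hS.root a ha).pos_or_neg with h4 | h4
      · exact ⟨a, ha, h4⟩
      · exact ⟨-a, hS.neg a ha, neg_nonneg.2 h4⟩
    rw [k3] at a1
    exact absurd a1 (not_sol he hσ F (w := v) ⟨hS.root, F.root, hcomb, fun a ha => (P.1 a).2 ha, P.2,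
      H85.RelStr.WR_S Dr hv, fun a _ => k1.commute b1 hy.2 a⟩ ⟨hb.1, hb.2, b2 b hb⟩ h4)
  · have h6 := (Fact.out : p.Prime).two_le
    have h7 := a2 (by omega) n hn h5
    rwa [Subgroup.relIndex_map_map_of_injective _ _ hj', Subgroup.relIndex_top_right] at h7

end Cfsg.Agent.T44.Ex
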