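import Cfsg.Agent.T44.Ex.Act
import Cfsg.Agent.T44.Cl.Tr
import Cfsg.Agent.DS.Gen.Split

/-!
# S3544, exceptional groups: group theory (helper36)

* `Cfg.ch`, `AS.setup`, `AS.noP`, `pg_of_hom`;
* `false_of_pol` : `Q` elementary abelian of order at most `3 ^ 6` with an invariant symplectic polarity;
* `five_of_hom`, `false_of_eight` : a homomorphism from `M` to a Weyl group.
-/

set_option autoImplicit false
set_option linter.unusedSectionVars false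

namespace Cfsg.Agent.T44.Ex

open Subgroup Cfsg Cfsg.Agent.T44
open scoped commutatorElement

section gen

variable {G : Type*} [Group G] [Finite G] {T H Q : Subgroup G} {r : ℕ} {Ya Yb : Set G} {da db : ℕ}

omit [Finite G] in
theorem ch (h : Cfg T H Q r Ya Yb da db) : Cl.Ch r (T ⊓ H) Q := ⟨h.prime, h.isO, h.cent⟩

/-- a normal subgroup which is an extension of an abelian group by an `r`-group -/
theorem pg_of_hom {N X : Subgroup G} (h : Cl.Ch r N Q) (hX : X ≤ N) (hn : N ≤ normalizer (X : Set G)) {P : Type*}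
    [Group P] (hP : IsPGroup r P) (f : X →* P) (hf : ∀ x y, f x = 1 → f y = 1 → x * y = y * x) : IsPGroup r X := by
  have h1 : f.ker.map X.subtype ≤ X ⊓ Q := by
    refine (h.sub hX hn).le_of_comm (map_subtype_le _) (norm_of_conj ?_) ?_
    · rintro a ha _ ⟨x, hx, rfl⟩
      exact ⟨_, f.normal_ker.conj_mem x hx ⟨a, ha⟩, rfl⟩
    · rintro _ ⟨x, hx, rfl⟩ _ ⟨y, hy, rfl⟩
      exact congrArg Subtype.val (hf x y hx hy)
  intro x
  obtain ⟨k, hk⟩ := hP (f x)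
  obtain ⟨j, hj⟩ := h.isO.pg ⟨_, (h1 ⟨x ^ r ^ k, by rw [SetLike.mem_coe, MonoidHom.mem_ker, map_pow, hk], rfl⟩).2⟩
  refine ⟨k + j, Subtype.ext ?_⟩
  have h2 : ((x : G) ^ r ^ k) ^ r ^ j = 1 := congrArg Subtype.val hj
  rw [pow_add, pow_mul]
  exact h2

theorem eq_of_sq_dvd_six {t k : ℕ} (ht : t.Prime) (h2 : t ≠ 2) (h3 : t ≠ 3) (hk : k ≤ 6)
    (hd : t ^ 2 ∣ ∏ i ∈ Finset.range k, (3 ^ k - 3 ^ i)) : t = 11 ∨ t = 13 := by
  have h1 : t ^ 2 ∣ 84129611558952960 := hd.trans (by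
    interval_cases k <;> simp only [Finset.prod_range_succ, Finset.prod_range_zero] <;> norm_num)
  have h0 : (84129611558952960 : ℕ) ∣ (2 * (3 * (5 * (7 * (11 * 13))))) ^ 15 := by norm_num
  have h4 := ht.dvd_of_dvd_pow (((dvd_pow_self t two_ne_zero).trans h1).trans h0)
  simp only [ht.dvd_mul] at h4
  have k : ∀ {b : ℕ}, b.Prime → t ∣ b → t = b := fun hb h => (Nat.prime_dvd_prime_iff_eq ht hb).1 h
  rcases h4 with h | h | h | h | h | h
  · exact absurd (k Nat.prime_two h) h2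
  · exact absurd (k Nat.prime_three h) h3
  · rw [k Nat.prime_five h] at h1; norm_num at h1
  · rw [k (by norm_num : Nat.Prime 7) h] at h1; norm_num at h1
  · exact Or.inl (k (by norm_num) h)
  · exact Or.inr (k (by norm_num) h)

theorem fin6 {t j : ℕ} (ht : t = 11 ∨ t = 13) (h5 : j ≤ 3) (h2 : j ≠ 0) (h3 : j ≠ 3) (h1 : (3 ^ 2) ^ 3 ≡ 9 ^ j [MOD t]) : False := by
  have : j = 1 ∨ j = 2 := by omega
  rcases ht with rfl | rfl <;> rcases this with rfl | rfl <;> revert h1 <;> decide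

/-- **An invariant symplectic polarity on `Q`.** -/
theorem false_of_pol (h : Cfg T H Q 3 Ya Yb da db) (hc : ∀ a ∈ Q, ∀ b ∈ Q, a * b = b * a) (hpow : ∀ a ∈ Q, a ^ 3 = 1)
    (hcard : Nat.card Q ≤ 3 ^ 6) (R : G → G → Prop)
    (hK : ∀ x ∈ Q, ∃ K : Subgroup G, (∀ y ∈ Q, y ∈ K ↔ R x y) ∧ ∀ y ∈ Q, y ∉ K → ∀ c ∈ Q, ∃ j : ℕ, c * y ^ j ∈ K)
    (hs : ∀ x y, R x y → R y x) (hr : ∀ x ∈ Q, R x x) (hn : ∀ x ∈ Q, (∀ y ∈ Q, R x y) → x = 1)
    (hi : ∀ m ∈ T ⊓ H, ∀ x ∈ Q, ∀ y ∈ Q, R x y → R (m * x * m⁻¹) (m * y * m⁻¹)) : False := by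
  have : Fact (Nat.Prime 3) := ⟨Nat.prime_three⟩
  let _ : CommGroup Q := { (inferInstance : Group Q) with mul_comm := fun a b => Subtype.ext (hc a a.2 b b.2) }
  choose K0 k1 k2 using fun x : Q => hK x x.2
  let K : Q → Subgroup Q := fun x => (K0 x).subgroupOf Q
  have hKm : ∀ x y : Q, y ∈ K x ↔ R x y := fun x y => k1 x y y.2
  have P : Pol 3 K := ⟨Nat.prime_three, fun x => Subtype.ext (hpow x x.2),
    fun x y e => (hKm _ _).2 (hs _ _ ((hKm _ _).1 e)), fun x => (hKm _ _).2 (hr x x.2), fun x y hy c => k2 x y y.2 hy c c.2⟩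
  have hnd : ∀ x, ⊤ ≤ K x → x = 1 := fun x e =>
    Subtype.ext (hn x x.2 fun y hy => (hKm x ⟨y, hy⟩).1 (e (mem_top _)))
  let φ : (T ⊓ H : Subgroup G) →* MulAut Q := Q.normalizerMonoidHom.comp (inclusion h.isO.norm)
  have hφ : ∀ (m : (T ⊓ H : Subgroup G)) (x : Q), ((φ m x : Q) : G) = m * x * (m : G)⁻¹ := fun _ _ => rfl
  obtain ⟨k, hk⟩ := P.card ⊤ fun x _ => hnd x
  rw [card_top] at hk
  have hk3 : k ≤ 3 := by
    rw [hk, ← pow_mul] at hcard
    have := (Nat.pow_le_pow_iff_right (by norm_num)).1 hcard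
    omega
  by_cases hk2 : k ≤ 2
  · refine h.false_of_card h.isO.pg h.isO.norm (h.isO.pg.to_le h.cent) (n := 4) ?_ (Or.inr (Or.inl ⟨rfl, le_rfl⟩))
    rw [hk, ← pow_mul]
    exact Nat.pow_le_pow_right (by norm_num) (by omega)
  obtain rfl : k = 3 := by omega
  obtain ⟨t, ht, t2, t3, hd⟩ : ∃ t : ℕ, t.Prime ∧ t ≠ 2 ∧ t ≠ 3 ∧ t ^ 2 ∣ Nat.card (T ⊓ H : Subgroup G) := by
    obtain ⟨s, t, a1, a2, a3, a4, a5, a6, a7⟩ := h.exists_sq
    by_cases e : s = 2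
    · exact ⟨t, a2, fun e' => a3 (e.trans e'.symm), a5, a7⟩
    · exact ⟨s, a1, e, a4, a6⟩
  have hco : t.Coprime 3 := (Nat.coprime_primes ht Nat.prime_three).2 t3
  have ht' : t = 11 ∨ t = 13 := by
    obtain ⟨j, hj⟩ := h.isO.pg.index (frattini Q)
    have h1 : 3 ^ j ≤ 3 ^ 6 := hj ▸ (Nat.le_of_dvd Nat.card_pos (index_dvd_card _)).trans hcard
    exact eq_of_sq_dvd_six ht t2 t3 ((Nat.pow_le_pow_iff_right (by norm_num)).1 h1)
      ((Nat.Coprime.pow _ _ hco).dvd_of_dvd_mul_left ((Cfg.pow_dvd_aut h.isO.norm (h.isO.pg.to_le h.cent) h.prime ht t3 hd).trans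
        (S4208.result (n := 6) (by rw [hk]; norm_num) hj)))
  have : Fact t.Prime := ⟨ht⟩
  obtain ⟨A, hA⟩ := Sylow.exists_subgroup_card_pow_prime t hd
  obtain ⟨a, ha, w, -, haw, h7⟩ : ∃ a ∈ A, ∃ w ∈ (⊤ : Subgroup Q), φ a w = w ∧ ¬ (a = 1 ∨ w ∈ (⊥ : Subgroup Q)) := by
    by_contra hc
    push Not at hc
    have h7 := card_dvd_sub (φ := φ) (A := A) (W := ⊤) (W' := ⊥) (fun _ _ _ _ => mem_top _)
      (fun a _ w hw => by rw [mem_bot.1 hw, map_one]; exact one_mem _) bot_le hc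
    rw [hA, card_top, hk, card_bot] at h7
    rcases ht' with rfl | rfl <;> norm_num at h7
  rw [not_or] at h7
  have hat : a ^ t ^ 2 = 1 := by
    have k5 : (⟨a, ha⟩ : A) ^ t ^ 2 = 1 := by rw [← hA]; exact pow_card_eq_one'
    exact congrArg Subtype.val k5
  obtain ⟨j, hj⟩ := P.card_fix (φ := φ) hnd hat (ht.odd_of_ne_two t2).pow (hco.pow_left 2) fun x y e =>
    (hKm _ _).2 (hi a a.2 x x.2 y y.2 ((hKm _ _).1 e))
  have h1 := card_mod (φ := φ) ht (isPGroup_zpowers hat) (W := ⊤) fun _ _ _ _ => mem_top _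
  rw [top_inf_eq, card_top, hk, hj] at h1
  have h2 : j ≠ 0 := fun e => h7.2 (by
    rw [e, pow_zero, card_eq_one] at hj
    exact hj.le (mem_Fx_zpowers.2 haw))
  have h3 : j ≠ 3 := fun e => h7.1 (by
    rw [e, show 9 ^ 3 = (3 ^ 2) ^ 3 by norm_num, ← hk, card_eq_iff_eq_top] at hj
    have h4 : (a : G) ∈ Q := h.cent ⟨a.2, mem_centralizer_iff.2 fun q hq => by
      have h5 := congrArg Subtype.val (mem_Fx_zpowers.1 (hj.ge (mem_top ⟨q, hq⟩)))
      rw [hφ, mul_inv_eq_iff_eq_mul] at h5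
      exact h5.symm⟩
    have h5 := Nat.eq_one_of_dvd_coprimes (hco.pow_left 2) (orderOf_dvd_of_pow_eq_one (congrArg Subtype.val hat))
      (orderOf_dvd_of_pow_eq_one (hpow a h4))
    exact Subtype.ext (orderOf_eq_one_iff.1 h5))
  have h4 : 9 ^ j ≤ 9 ^ 3 := by
    rw [← hj, show 9 ^ 3 = (3 ^ 2) ^ 3 by norm_num, ← hk]
    exact Nat.le_of_dvd Nat.card_pos (card_subgroup_dvd_card _)
  have h5 : j ≤ 3 := (Nat.pow_le_pow_iff_right (by norm_num)).1 h4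
  exact fin6 ht' h5 h2 h3 h1

end gen

section setup

variable {G : Type} [Group G] [Finite G] {T H Q : Subgroup G} {r : ℕ} {Ya Yb : Set G} {da db : ℕ}
  (h : AS T H Q r Ya Yb da db)
include h

theorem setup : DS.Setup T H := ⟨h.normal, h.simple, h.noncomm, h.centT, h.coatom, h.toCfg.not_T_le⟩

/-- `H` normalises no `p`-subgroup of `T` -/
theorem noP {p : ℕ} (hp : p.Prime) (hrp : r ≠ p) (P : Subgroup G) (hP : P ≤ T) (hpg : IsPGroup p P)
    (hn : H ≤ normalizer (P : Set G)) : P = ⊥ := by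
  have : Fact p.Prime := ⟨hp⟩
  have : Fact r.Prime := ⟨h.prime⟩
  have hd : ∀ P' : Subgroup G, IsPGroup p P' → Q ⊓ P' = ⊥ := fun P' h' =>
    (IsPGroup.disjoint_of_ne r p hrp _ _ h.isO.pg h').eq_bot
  by_contra h0
  have h1 := DS.Gen.normalizer_eq_of_setup (setup h) hP h0 (fun e => h.Q_ne (by
    rw [← hd P hpg, e, inf_eq_left.2 h.toCfg.Q_le_T])) hn
  have h2 : P ≤ T ⊓ H := le_inf hP (h1 ▸ le_normalizer)
  have h3 : ⁅P, Q⁆ = ⊥ := by
    rw [eq_bot_iff, ← hd P hpg]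
    exact le_inf (commutator_le_right_of_norm (h2.trans h.isO.norm))
      (commutator_le_left_of_norm (h.toCfg.Q_le_H.trans hn))
  apply h0
  rw [← hd P hpg, eq_comm, inf_eq_right]
  exact (le_inf h2 (commutator_eq_bot_iff_le_centralizer.1 h3)).trans h.cent

end setup

end Cfsg.Agent.T44.Ex
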