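import Cfsg.Agent.T44.Ex.W8
import Cfsg.Agent.DS.Nt.Cnt

/-!
# S3544: `W1`, `W2` for a general Coxeter matrix of type `E₈` (helper34)
-/

set_option autoImplicit false

namespace Cfsg.Agent.T44.Ex

open Cfsg Cfsg.Lie Cfsg.Agent.ChevalleyStructure.CoxeterGeom Cfsg.Agent.Nodes.RGDChev

theorem W2g {M : CoxeterMatrix (Fin 8)} (hp : IsType chevE8 8 M) (P : Subgroup M.Group) (hP : Nat.card P = 25)
    (v : Fin 8 → ℤ) (hv : ∀ x ∈ P, rep M.toCoxeterSystem hp.isCartan x v = v) : v = 0 := by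
  obtain rfl := DS.Nt.eqE8 hp
  exact W2 hP v hv

theorem W1g' {M : CoxeterMatrix (Fin 8)} (hp : IsType chevE8 8 M) {P S : Subgroup M.Group} {s : ℕ} (hs : s = 2 ∨ s = 3)
    (hP : Nat.card P = 25) (hS : IsPGroup s S) (hn : P ≤ Subgroup.normalizer (S : Set M.Group)) :
    ∀ g ∈ S, g ^ 2 = 1 ∧ ∀ v, g * v = v * g := by
  obtain rfl := DS.Nt.eqE8 hp
  exact W1' hP hs hS hn

theorem W1g {M : CoxeterMatrix (Fin 8)} (hp : IsType chevE8 8 M) {P S : Subgroup M.Group} {s : ℕ} (hs : s = 2 ∨ s = 3)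
    (hP : Nat.card P = 25) (hS : IsPGroup s S) (hn : P ≤ Subgroup.normalizer (S : Set M.Group)) :
    P ≤ Subgroup.centralizer (S : Set M.Group) := by
  obtain rfl := DS.Nt.eqE8 hp
  exact W1 hP hs hS hn

end Cfsg.Agent.T44.Ex
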