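import Cfsg.Agent.T44.Ex.Fix
import Cfsg.Agent.T44.Ex.Weyl
import Cfsg.Agent.T44.Ex.W8G

/-!
# S3544, exceptional groups: the toral case (helper36)

`false_tor` : if `H` normalises a non-trivial toral subgroup of the algebraic group, there is no configuration.
-/

set_option autoImplicit false
set_option linter.unusedSectionVars false

namespace Cfsg.Agent.T44.Ex

open CoxeterSystem Cfsg Cfsg.Lie Cfsg.Lie.ChevalleyDatum
open Cfsg.Agent.ChevalleyStructure Cfsg.Agent.ChevalleyStructure.Elts Cfsg.Agent.ChevalleyStructure.CoxeterGeom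
  Cfsg.Agent.ChevalleyStructure.CoxeterGeomTypes
open Cfsg.Agent.Tits.Roots Cfsg.Agent.Tits.Core Cfsg.Agent.Nodes Cfsg.Agent.Nodes.Reps Cfsg.Agent.Nodes.BNOf
  Cfsg.Agent.Nodes.RGDChev Cfsg.Agent.Nodes.Bruhat Cfsg.Agent.Nodes.NormalForm
open Cfsg.Agent.KFacts.RgdField Cfsg.Agent.KFacts.RgdChevCoord
open Cfsg.Agent.BpExc Cfsg.Agent.BpExc.TorCent Cfsg.Agent.BpExc.TorChev Cfsg.Agent.BpExc.Tow
  Cfsg.Agent.BpExc.TowChev Cfsg.Agent.BpExc.Fr Cfsg.Agent.BpExc.LangFr Cfsg.Agent.BpExc.Zc Cfsg.Agent.BpExc.RelBN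
  Cfsg.Agent.BpExc.SubBN Cfsg.Agent.GpExc.Field
open Cfsg.Agent.H469.Exc Cfsg.Agent.H129.TorusChar Cfsg.Agent.DS.Nt Cfsg.Agent.DS.Ex Cfsg.Agent.DS.Ex.Tor

variable {D : ChevalleyDatum} {l : ℕ} {M : CoxeterMatrix (Fin l)} {hp : IsType D l M} {p : ℕ} [Fact p.Prime]
  {S : Set (Fin l → ℤ)} {G : Type} [Group G] [Finite G] {T H Q : Subgroup G} {r : ℕ} {Ya Yb : Set G} {da db : ℕ}

/-- the action of `M` on the lattice -/
theorem exists_hom (hs : DS.Setup T H) {L : Lift hp p T} (N : NF L H S) : ∃ f : (T ⊓ H : Subgroup G) →* M.Group,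
    (∀ x, Pres S (repAut M.toCoxeterSystem hp.isCartan (f x))) ∧
      ∀ x, f x = 1 ↔ L.ι (Subgroup.inclusion inf_le_left x) ∈ DD D p S := by
  have h1 : ∀ x : (T ⊓ H : Subgroup G), ∃ w : M.Group, Act hp p S (MulAut.conj (L.ι (Subgroup.inclusion inf_le_left x)))
      (repAut M.toCoxeterSystem hp.isCartan w) ∧ (w = 1 → L.ι (Subgroup.inclusion inf_le_left x) ∈ DD D p S) := fun x => by
    obtain ⟨g, hg⟩ := N.act _ (L.conj_mem_GH hs.normal hs.cent (x := Subgroup.inclusion inf_le_left x) x.2.2)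
      (L.ι (Subgroup.inclusion inf_le_left x))⁻¹ (AddEquiv.refl _) (by
        rw [← map_mul, inv_mul_cancel, map_one]
        exact Fr.one)
    obtain ⟨w, rfl, hw⟩ := hg.inner
    exact ⟨w, hg, hw⟩
  choose f k1 k2 using h1
  refine ⟨MonoidHom.mk' f fun x y => rep_injective M.toCoxeterSystem hp.isCartan (LinearMap.ext fun a => ?_),
    fun x => ?_, fun x => ⟨k2 x, fun e => rep_injective M.toCoxeterSystem hp.isCartan (LinearMap.ext fun a => ?_)⟩⟩
  · have h2 := Act.mul N.cs (k1 x) (k1 y)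
    rw [← map_mul, ← map_mul, ← map_mul] at h2
    rw [rep_mul_apply]
    exact DFunLike.congr_fun (Act.unique N.cs (k1 _) h2) a
  · obtain ⟨-, -, -, -, -, h2⟩ := k1 x
    exact h2
  · rw [map_one]
    exact DFunLike.congr_fun (Act.unique N.cs (k1 x) (Act.of_mem_DD N.cs e)) a

theorem sum_fix (hS : CS hp S) {g : (Fin l → ℤ) ≃+ (Fin l → ℤ)} (h : Pres S g) (hf : (Sp S).Finite) :
    g (∑ a ∈ hf.toFinset, a) = ∑ a ∈ hf.toFinset, a := by
  have h' := pres_symm hS.root hS.neg h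
  rw [map_sum]
  refine Finset.sum_nbij' g g.symm (fun a ha => ?_) (fun a ha => ?_) (fun a _ => g.symm_apply_apply a)
    (fun a _ => g.apply_symm_apply a) fun _ _ => rfl
  · rw [Set.Finite.mem_toFinset] at ha ⊢
    exact ⟨(h.1 a).2 ha.1, h.2 a ha.1 ha.2⟩
  · rw [Set.Finite.mem_toFinset] at ha ⊢
    exact ⟨(h'.1 a).2 ha.1, h'.2 a ha.1 ha.2⟩

theorem false_nf (h : AS T H Q r Ya Yb da db) (hD : Typ D) {L : Lift hp p T} (hrp : r ≠ p) (N : NF L H S)
    (hcomb : ∀ a ∈ S, ∀ b ∈ S, ∀ i j : ℤ, RT hp (i • a + j • b) → i • a + j • b ∈ S)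
    (hH : S.Nonempty → ∀ x : T, L.ι x ∈ DD D p S → (x : G) ∈ H) : False := by
  have := finW hp
  have c := h.toCfg
  obtain ⟨f, f1, f2⟩ := exists_hom (setup h) N
  have hK : T ⊓ H ≤ Subgroup.normalizer (f.ker.map (T ⊓ H).subtype : Set G) := norm_of_conj (by
    rintro a ha _ ⟨x, hx, rfl⟩
    exact ⟨_, f.normal_ker.conj_mem x hx ⟨a, ha⟩, rfl⟩)
  have hemp : ¬ S.Nonempty → ∀ x, f x = 1 → (x : G) ∈ Q := fun hne x hx => by
    have h1 : DD D p S ≤ TT D (KK p) := sup_le (RGD.Sup_le fun a ha => absurd ⟨a, ha⟩ hne) le_rfl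
    refine (ch c).le_of_comm (Subgroup.map_subtype_le _) hK ?_ ⟨x, hx, rfl⟩
    rintro _ ⟨a, ha, rfl⟩ _ ⟨b, hb, rfl⟩
    have h2 := TT_comm hp _ (h1 ((f2 a).1 ha)) _ (h1 ((f2 b).1 hb))
    rw [← map_mul L.ι, ← map_mul L.ι] at h2
    exact congrArg Subtype.val (L.inj h2)
  obtain ⟨n, n1, n2, n3⟩ := five_of_hom c f fun n hn h5 => by
    by_cases hne : S.Nonempty
    · obtain ⟨g, F, P⟩ := N.fr
      have := L.fin
      let j : f.ker →* YY D p := (L.ι.comp (Subgroup.inclusion inf_le_left)).comp f.ker.subtype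
      have hj : ∀ y, y ∈ j.range ↔ y ∈ L.ι.range ∧ y ∈ DD D p S := fun y =>
        ⟨fun ⟨x, e⟩ => ⟨⟨_, e⟩, e ▸ (f2 x).1 x.2⟩, fun ⟨⟨x, e⟩, hy⟩ =>
          ⟨⟨⟨x, x.2, hH hne x (e ▸ hy)⟩, (f2 _).2 (show L.ι x ∈ _ from e ▸ hy)⟩, e⟩⟩
      have hi : Function.Injective ((T ⊓ H).subtype.comp f.ker.subtype) :=
        (T ⊓ H).subtype_injective.comp f.ker.subtype_injective
      refine fix_ch N.cs hcomb hne L.he L.frob F P (j := j)
        ((L.inj.comp (Subgroup.inclusion_injective _)).comp f.ker.subtype_injective) (fun y hy => ?_)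
        (fun y hy x hx => ?_) (fun u hu h1 h2 => (hj u).2 ⟨L.pel u h1 h2, Subgroup.mem_sup_left hu⟩)
        ((Cl.ch_map_iff hi).1 ?_) hrp hn h5
      · obtain ⟨⟨x, rfl⟩, h1⟩ := (hj y).1 hy
        exact ⟨h1, L.fix x⟩
      · obtain ⟨⟨x, rfl⟩, h1⟩ := (hj x).1 hx
        exact (hj _).2 ⟨L.norm y hy.2 x, mul_mem (mul_mem hy.1 h1) (inv_mem hy.1)⟩
      · convert (ch c).sub (Subgroup.map_subtype_le f.ker) hK using 1
        · rw [← Subgroup.map_map, ← MonoidHom.range_eq_map, Subgroup.range_subtype]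
        · rw [← Subgroup.map_map, Subgroup.subgroupOf_map_subtype, Subgroup.map_inf _ _ _ (T ⊓ H).subtype_injective,
            Subgroup.subgroupOf_map_subtype, inf_eq_left.2 c.Q_le_M, inf_comm]
    · rw [Subgroup.relIndex_eq_one.2 (hemp hne), Nat.dvd_one]
      omega
  have h1 := n3.trans (Subgroup.card_subgroup_dvd_card _)
  obtain rfl := eq_five n1 n2 (h1.trans (card_W_dvd hp hD))
  have hW := DS.Nt.card_W hp
  rcases hD with e | e | e | rfl
  · rw [hW.1 e] at h1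
    norm_num at h1
  · rw [hW.2.1 e] at h1
    norm_num at h1
  · rw [hW.2.2.1 e] at h1
    norm_num at h1
  obtain rfl := (typ_l hp).2.2.2 rfl
  by_cases hne : S.Nonempty
  · have := Fact.mk n1
    obtain ⟨P, hP⟩ := Sylow.exists_subgroup_card_pow_prime 5 n3
    have hfin : (Sp S).Finite := N.cs.cl.finite.subset fun a ha => ha.1
    have h2 := W2g hp (P.map f.range.subtype) (by rw [Subgroup.card_map_of_injective f.range.subtype_injective, hP]; norm_num)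
      (∑ a ∈ hfin.toFinset, a) (by
        rintro _ ⟨⟨_, x, rfl⟩, -, rfl⟩
        exact sum_fix N.cs (f1 x) hfin)
    rw [Finset.sum_eq_zero_iff_of_nonneg fun a ha => ((Set.Finite.mem_toFinset _).1 ha).2] at h2
    obtain ⟨a, ha⟩ := hne
    rcases (N.cs.root a ha).pos_or_neg with h4 | h4
    · exact (N.cs.root a ha).ne_zero (h2 a ((Set.Finite.mem_toFinset _).2 ⟨ha, h4⟩))
    · exact (N.cs.root a ha).neg.ne_zero (h2 _ ((Set.Finite.mem_toFinset _).2 ⟨N.cs.neg a ha, neg_nonneg.2 h4⟩))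
  · exact false_of_eight (card_W_dvd hp (Or.inr (Or.inr (Or.inr rfl)))) (fun _ _ _ h2 h3 h4 h5 g hg =>
      Subgroup.mem_center_iff.2 fun v => ((W1g' hp h2 h3 h4 h5 g hg).2 v).symm) f (hemp hne) c

/-- **The toral case.** -/
theorem false_tor (h : AS T H Q r Ya Yb da db) (hD : Typ D) (L : Lift hp p T) (hrp : r ≠ p) {A₀ : Subgroup (YY D p)}
    (h0 : A₀ ≠ ⊥) (hT : Toral p A₀) (hI₀ : L.Inv H A₀) : False := by
  have hs := setup h
  obtain ⟨z₀, A, hfin, hA0, hA, hI⟩ := exists_fin L h0 hT hI₀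
  have hΨ := cs_Ps (hp := hp) hA
  obtain ⟨z, hz, N⟩ := exists_nf (L.conj z₀) hs.normal hs.cent hA hI hΨ le_rfl fun _ _ h => h
  refine false_nf h hD hrp N (fun a ha b hb i j e => ?_) fun hne x hx =>
    mem_of_norm_Ps (L.conj z₀) hs hA0 hA hI hne (norm_MS hΨ (mem_DD_conj hz hx))
  rw [mem_Ps hA] at ha hb ⊢
  refine ⟨e, fun t ht => ?_⟩
  have h1 := isMC_cX hp (hA ht)
  rw [h1.add, h1.zsmul, h1.zsmul, ha.2 t ht, hb.2 t ht, one_zpow, one_zpow, one_mul]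

end Cfsg.Agent.T44.Ex
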