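import Cfsg.Agent.T44.Cl.W8a
import Cfsg.Agent.DS.Ex.Defs

/-!
# S3544: subgroups of order 25 of the Weyl group of `E₈` (helper34)

* `W2` : a subgroup of order 25 fixes no nonzero vector of the root lattice;
* `W1` : it centralizes every `2`-subgroup and every `3`-subgroup that it normalizes.
-/

set_option autoImplicit false
set_option linter.unusedSectionVars false
set_option linter.style.haveILetI false

namespace Cfsg.Agent.T44.Ex

open CoxeterSystem Cfsg Cfsg.Lie Matrix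
open Cfsg.Agent.ChevalleyStructure.CoxeterGeom Cfsg.Agent.ChevalleyStructure.CoxeterGeomTypes Cfsg.Agent.Tits.Roots
open Cfsg.Agent.DS.Ex (hpE8)
open Cfsg.Agent.T44.Cl.W8

namespace W8

/-- the Cartan matrix -/
def A8 : Matrix (Fin 8) (Fin 8) ℤ :=
  !![2, 0, -1, 0, 0, 0, 0, 0; 0, 2, 0, -1, 0, 0, 0, 0; -1, 0, 2, -1, 0, 0, 0, 0; 0, -1, -1, 2, -1, 0, 0, 0;
    0, 0, 0, -1, 2, -1, 0, 0; 0, 0, 0, 0, -1, 2, -1, 0; 0, 0, 0, 0, 0, -1, 2, -1; 0, 0, 0, 0, 0, 0, -1, 2]

/-- its inverse -/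
def I8 : Matrix (Fin 8) (Fin 8) ℤ :=
  !![4, 5, 7, 10, 8, 6, 4, 2; 5, 8, 10, 15, 12, 9, 6, 3; 7, 10, 14, 20, 16, 12, 8, 4; 10, 15, 20, 30, 24, 18, 12, 6;
    8, 12, 16, 24, 20, 15, 10, 5; 6, 9, 12, 18, 15, 12, 8, 4; 4, 6, 8, 12, 10, 8, 6, 3; 2, 3, 4, 6, 5, 4, 3, 2]

theorem A8_I8 : A8 * I8 = 1 := by decide +kernel

theorem A8_eq (i j : Fin 8) : cartanOf chevE8 8 i j = A8 i j := by
  have h : (List.finRange 8).all (fun i => (List.finRange 8).all fun j => cartanOf chevE8 8 i j == A8 i j) = true := by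
    decide +kernel
  rw [List.all_eq_true] at h
  have h2 := h i (List.mem_finRange i)
  rw [List.all_eq_true] at h2
  exact beq_iff_eq.1 (h2 j (List.mem_finRange j))

theorem A8_symm (i j : Fin 8) : A8 i j = A8 j i := by
  have h : A8ᵀ = A8 := by decide +kernel
  exact (congrFun (congrFun h i) j).symm

theorem A8_diag : ∀ i, A8 i i = 2 := by decide +kernel

/-- the form on the lattice -/
def fm : LinearMap.BilinForm ℤ (Fin 8 → ℤ) := Matrix.toBilin' A8

theorem fm_apply (x y : Fin 8 → ℤ) : fm x y = ∑ i, ∑ j, x i * A8 i j * y j := Matrix.toBilin'_apply _ _ _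

theorem fm_symm (x y : Fin 8 → ℤ) : fm x y = fm y x := by
  rw [fm_apply, fm_apply, Finset.sum_comm]
  refine Finset.sum_congr rfl fun i _ => Finset.sum_congr rfl fun j _ => ?_
  rw [A8_symm j i]; ring

theorem fm_sr (i : Fin 8) (y : Fin 8 → ℤ) : fm (sr i) y = pairing (cartanOf chevE8 8) i y := by
  rw [fm_apply, Finset.sum_eq_single i]
  · unfold pairing
    refine Finset.sum_congr rfl fun j _ => ?_
    rw [sr_self, one_mul, A8_eq]
  · intro j _ hj
    refine Finset.sum_eq_zero fun j' _ => ?_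
    rw [sr_ne hj, zero_mul, zero_mul]
  · intro h
    exact absurd (Finset.mem_univ i) h

theorem fm_sr_sr (i : Fin 8) : fm (sr i) (sr i) = 2 := by
  rw [fm_sr]
  unfold pairing
  rw [Finset.sum_eq_single i, sr_self, mul_one, A8_eq, A8_diag]
  · intro j _ hj
    rw [sr_ne hj, mul_zero]
  · intro h
    exact absurd (Finset.mem_univ i) h

theorem fm_self (x : Fin 8 → ℤ) : fm x x = 2 * (x 0 ^ 2 + x 1 ^ 2 + x 2 ^ 2 + x 3 ^ 2 + x 4 ^ 2 + x 5 ^ 2 + x 6 ^ 2 + x 7 ^ 2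
    - x 0 * x 2 - x 1 * x 3 - x 2 * x 3 - x 3 * x 4 - x 4 * x 5 - x 5 * x 6 - x 6 * x 7) := by
  rw [fm_apply]
  simp [Fin.sum_univ_succ, A8]
  ring

theorem fm_sq (x : Fin 8 → ℤ) : 4 * fm x x = (x 0 + 2 * x 1 - 2 * x 2) ^ 2 + (-x 0 + 2 * x 1 + 2 * x 2 - 2 * x 3) ^ 2 +
    (-x 0 + 2 * x 3 - 2 * x 4) ^ 2 + (-x 0 + 2 * x 4 - 2 * x 5) ^ 2 + (-x 0 + 2 * x 5 - 2 * x 6) ^ 2 +
    (-x 0 + 2 * x 6 - 2 * x 7) ^ 2 + (-x 0 + 2 * x 7) ^ 2 + x 0 ^ 2 := by
  rw [fm_self]; ring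

theorem fm_nonneg (x : Fin 8 → ℤ) : 0 ≤ fm x x := by
  have := fm_sq x
  nlinarith [sq_nonneg (x 0 + 2 * x 1 - 2 * x 2), sq_nonneg (-x 0 + 2 * x 1 + 2 * x 2 - 2 * x 3),
    sq_nonneg (-x 0 + 2 * x 3 - 2 * x 4), sq_nonneg (-x 0 + 2 * x 4 - 2 * x 5), sq_nonneg (-x 0 + 2 * x 5 - 2 * x 6),
    sq_nonneg (-x 0 + 2 * x 6 - 2 * x 7), sq_nonneg (-x 0 + 2 * x 7), sq_nonneg (x 0)]

theorem fm_zero {x : Fin 8 → ℤ} (h : fm x x = 0) : x = 0 := by
  have e := fm_sq x
  rw [h] at e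
  have a1 := sq_nonneg (x 0 + 2 * x 1 - 2 * x 2)
  have a2 := sq_nonneg (-x 0 + 2 * x 1 + 2 * x 2 - 2 * x 3)
  have a3 := sq_nonneg (-x 0 + 2 * x 3 - 2 * x 4)
  have a4 := sq_nonneg (-x 0 + 2 * x 4 - 2 * x 5)
  have a5 := sq_nonneg (-x 0 + 2 * x 5 - 2 * x 6)
  have a6 := sq_nonneg (-x 0 + 2 * x 6 - 2 * x 7)
  have a7 := sq_nonneg (-x 0 + 2 * x 7)
  have a8 := sq_nonneg (x 0)
  have b1 : x 0 + 2 * x 1 - 2 * x 2 = 0 := pow_eq_zero_iff two_ne_zero |>.1 (by linarith)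
  have b2 : -x 0 + 2 * x 1 + 2 * x 2 - 2 * x 3 = 0 := pow_eq_zero_iff two_ne_zero |>.1 (by linarith)
  have b3 : -x 0 + 2 * x 3 - 2 * x 4 = 0 := pow_eq_zero_iff two_ne_zero |>.1 (by linarith)
  have b4 : -x 0 + 2 * x 4 - 2 * x 5 = 0 := pow_eq_zero_iff two_ne_zero |>.1 (by linarith)
  have b5 : -x 0 + 2 * x 5 - 2 * x 6 = 0 := pow_eq_zero_iff two_ne_zero |>.1 (by linarith)
  have b6 : -x 0 + 2 * x 6 - 2 * x 7 = 0 := pow_eq_zero_iff two_ne_zero |>.1 (by linarith)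
  have b7 : -x 0 + 2 * x 7 = 0 := pow_eq_zero_iff two_ne_zero |>.1 (by linarith)
  have b8 : x 0 = 0 := pow_eq_zero_iff two_ne_zero |>.1 (by linarith)
  funext i
  fin_cases i <;> simp <;> omega

theorem fm_even (x : Fin 8 → ℤ) : ∃ k, fm x x = 2 * k := ⟨_, fm_self x⟩

/-- the action on the lattice -/
abbrev rp : CoxeterMatrix.E₈.Group →* Module.End ℤ (Fin 8 → ℤ) := rep CoxeterMatrix.E₈.toCoxeterSystem hpE8.isCartan

theorem rp_simple (i : Fin 8) (x : Fin 8 → ℤ) :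
    rp (CoxeterMatrix.E₈.toCoxeterSystem.simple i) x = x - fm (sr i) x • sr i := by
  rw [fm_sr]; exact rep_simple_eq _ _ i x

theorem fm_rp (w : CoxeterMatrix.E₈.Group) (x y : Fin 8 → ℤ) : fm (rp w x) (rp w y) = fm x y := by
  obtain ⟨L, rfl⟩ := CoxeterMatrix.E₈.toCoxeterSystem.wordProd_surjective w
  induction L with
  | nil => rw [wordProd_nil, map_one, Module.End.one_apply, Module.End.one_apply]
  | cons i L ih =>
    rw [wordProd_cons, map_mul, Module.End.mul_apply, Module.End.mul_apply, rp_simple, rp_simple, ← ih]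
    simp only [map_sub, map_smul, LinearMap.sub_apply, LinearMap.smul_apply, smul_eq_mul, fm_sr_sr]
    rw [fm_symm _ (sr i)]
    ring

/-- an element congruent to `1` modulo `s ≥ 2` sends each simple root to itself or its negative -/
theorem sign_of_mod {s : ℕ} (hs : 2 ≤ s) {w : CoxeterMatrix.E₈.Group} (i : Fin 8) {x : Fin 8 → ℤ}
    (h : rp w (sr i) = sr i + (s : ℤ) • x) : rp w (sr i) = sr i ∨ rp w (sr i) = - sr i := by
  have h1 := fm_rp w (sr i) (sr i)
  rw [h, fm_sr_sr] at h1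
  simp only [map_add, map_smul, LinearMap.add_apply, LinearMap.smul_apply, smul_eq_mul, fm_sr_sr] at h1
  rw [fm_symm x (sr i)] at h1
  by_cases hx : x = 0
  · left; rw [h, hx, smul_zero, add_zero]
  right
  have h2 := fm_nonneg ((2 : ℤ) • sr i + (s : ℤ) • x)
  have h3 : fm ((2 : ℤ) • sr i + (s : ℤ) • x) ((2 : ℤ) • sr i + (s : ℤ) • x) = 8 - (s : ℤ) * (s * fm x x) := by
    simp only [map_add, map_smul, LinearMap.add_apply, LinearMap.smul_apply, smul_eq_mul, fm_sr_sr]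
    rw [fm_symm x (sr i)]
    linarith
  obtain ⟨k, hk⟩ := fm_even x
  have h4 : fm x x ≠ 0 := fun h0 => hx (fm_zero h0)
  have h5 := fm_nonneg x
  have h6 : (2 : ℤ) ≤ s := by exact_mod_cast hs
  have h7 : 2 ≤ fm x x := by omega
  have h8 : 8 ≤ (s : ℤ) * (s * fm x x) := by
    have a : (2 : ℤ) * 2 ≤ s * fm x x := mul_le_mul h6 h7 (by norm_num) (by omega)
    have b : (2 : ℤ) * (2 * 2) ≤ s * (s * fm x x) := mul_le_mul h6 a (by norm_num) (by omega)
    omega
  have h9 := fm_zero (x := (2 : ℤ) • sr i + (s : ℤ) • x) (by omega)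
  rw [h, eq_neg_iff_add_eq_zero, ← h9, two_smul]
  abel

theorem eq_of_sr {w w' : CoxeterMatrix.E₈.Group} (h : ∀ i, rp w (sr i) = rp w' (sr i)) : w = w' := by
  apply rep_injective CoxeterMatrix.E₈.toCoxeterSystem hpE8.isCartan
  apply LinearMap.pi_ext'
  intro i
  apply LinearMap.ext_ring
  exact h i

theorem central_of_sign {w : CoxeterMatrix.E₈.Group} (h : ∀ i, rp w (sr i) = sr i ∨ rp w (sr i) = - sr i)
    (v : CoxeterMatrix.E₈.Group) : w * v = v * w := by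
  have key : ∀ i, w * CoxeterMatrix.E₈.toCoxeterSystem.simple i = CoxeterMatrix.E₈.toCoxeterSystem.simple i * w := by
    intro i
    apply eq_of_sr
    intro j
    rw [map_mul, map_mul, Module.End.mul_apply, Module.End.mul_apply, rp_simple, rp_simple, map_sub, map_smul,
      ← fm_rp w (sr i) (sr j)]
    rcases h i with e | e <;> rw [e] <;> simp
  obtain ⟨L, rfl⟩ := CoxeterMatrix.E₈.toCoxeterSystem.wordProd_surjective v
  induction L with
  | nil => rw [wordProd_nil, mul_one, one_mul]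
  | cons i L ih => rw [wordProd_cons, ← mul_assoc, key, mul_assoc, ih, mul_assoc]

theorem sq_of_sign {w : CoxeterMatrix.E₈.Group} (h : ∀ i, rp w (sr i) = sr i ∨ rp w (sr i) = - sr i) : w ^ 2 = 1 := by
  apply eq_of_sr
  intro i
  rw [pow_two, map_mul, Module.End.mul_apply, map_one, Module.End.one_apply]
  rcases h i with e | e
  · rw [e, e]
  · rw [e, map_neg, e, neg_neg]

variable (s : ℕ) [hs : Fact s.Prime]

/-- reduction modulo `s` -/
def red (x : Fin 8 → ℤ) : Fin 8 → ZMod s := fun i => (x i : ZMod s)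

theorem red_surj (v : Fin 8 → ZMod s) : ∃ x, red s x = v :=
  ⟨fun i => (ZMod.intCast_surjective (v i)).choose, funext fun i => (ZMod.intCast_surjective (v i)).choose_spec⟩

/-- the action modulo `s` -/
noncomputable def rs : CoxeterMatrix.E₈.Group →* Module.End (ZMod s) (Fin 8 → ZMod s) :=
  (Matrix.toLinAlgEquiv' (R := ZMod s) (n := Fin 8)).toMonoidHom.comp
    (((Int.castRingHom (ZMod s)).mapMatrix (m := Fin 8)).toMonoidHom.comp
      ((LinearMap.toMatrixAlgEquiv' (R := ℤ) (n := Fin 8)).toMonoidHom.comp rp))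

theorem rs_red (w : CoxeterMatrix.E₈.Group) (x : Fin 8 → ℤ) : rs s w (red s x) = red s (rp w x) := by
  funext i
  have h1 : rp w x = (LinearMap.toMatrixAlgEquiv' (rp w)) *ᵥ x := by
    rw [← Matrix.toLinAlgEquiv'_apply, Matrix.toLinAlgEquiv'_toMatrixAlgEquiv']
  change (Matrix.toLinAlgEquiv' ((LinearMap.toMatrixAlgEquiv' (rp w)).map (Int.castRingHom (ZMod s))) (red s x)) i =
    Int.castRingHom (ZMod s) (rp w x i)
  rw [Matrix.toLinAlgEquiv'_apply, h1, RingHom.map_mulVec]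
  rfl

/-- the form modulo `s` -/
def fs : LinearMap.BilinForm (ZMod s) (Fin 8 → ZMod s) := Matrix.toBilin' (A8.map (Int.castRingHom (ZMod s)))

theorem fs_red (x y : Fin 8 → ℤ) : fs s (red s x) (red s y) = (fm x y : ZMod s) := by
  rw [fm_apply, fs, Matrix.toBilin'_apply]
  push_cast
  rfl

theorem fs_nondeg : (fs s).Nondegenerate := by
  apply LinearMap.BilinForm.nondegenerate_toBilin'_of_det_ne_zero'
  have h : A8.map (Int.castRingHom (ZMod s)) * I8.map (Int.castRingHom (ZMod s)) = 1 := by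
    rw [← Matrix.map_mul, A8_I8, Matrix.map_one _ (map_zero _) (map_one _)]
  exact (Matrix.isUnit_det_of_right_inverse h).ne_zero

theorem sign_of_rs {w : CoxeterMatrix.E₈.Group} (h : ∀ v, rs s w v = v) (i : Fin 8) :
    rp w (sr i) = sr i ∨ rp w (sr i) = - sr i := by
  have h1 := h (red s (sr i))
  rw [rs_red] at h1
  have h2 : ∀ j, (s : ℤ) ∣ rp w (sr i) j - sr i j := fun j =>
    (ZMod.intCast_eq_intCast_iff_dvd_sub _ _ s).1 (congrFun h1 j).symm
  refine sign_of_mod hs.out.two_le i (x := fun j => (h2 j).choose) (funext fun j => ?_)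
  rw [Pi.add_apply, Pi.smul_apply, smul_eq_mul, ← (h2 j).choose_spec]
  ring

theorem faithful {P : Subgroup CoxeterMatrix.E₈.Group} (hP : Nat.card P = 25) :
    ∀ g ∈ P, (∀ v, rs s g v = v) → g = 1 := by
  intro g hg h
  have h2 := sq_of_sign (sign_of_rs s h)
  have h25 : g ^ 25 = 1 := by
    have := pow_card_eq_one' (G := P) (x := ⟨g, hg⟩)
    rw [hP] at this
    exact congrArg Subtype.val this
  have := (pow_gcd_eq_one (a := g) (m := 2) (n := 25)).2 ⟨h2, h25⟩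
  rwa [show Nat.gcd 2 25 = 1 by norm_num, pow_one] at this

end W8

open W8

/-- **A subgroup of order 25 of `W(E₈)` fixes no nonzero vector.** -/
theorem W2 {P : Subgroup CoxeterMatrix.E₈.Group} (hP : Nat.card P = 25) (v : Fin 8 → ℤ)
    (hv : ∀ x ∈ P, rep CoxeterMatrix.E₈.toCoxeterSystem hpE8.isCartan x v = v) : v = 0 := by
  haveI : Fact (Nat.Prime 2) := ⟨Nat.prime_two⟩
  have hb := fix_eq_bot (Or.inl rfl) (by simp) (rs 2) hP (faithful 2 hP)
  obtain ⟨n, hn⟩ : ∃ n : ℕ, fm v v = n := ⟨(fm v v).toNat, (Int.toNat_of_nonneg (fm_nonneg v)).symm⟩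
  induction n using Nat.strong_induction_on generalizing v with
  | _ n ih =>
    by_cases h0 : n = 0
    · exact fm_zero (by rw [hn, h0]; rfl)
    have h1 : red 2 v ∈ Fx (rs 2) P := fun g hg => by rw [rs_red, hv g hg]
    rw [hb, Submodule.mem_bot] at h1
    have h2 : ∀ j, ((2 : ℕ) : ℤ) ∣ v j := fun j => (ZMod.intCast_zmod_eq_zero_iff_dvd _ 2).1 (congrFun h1 j)
    obtain ⟨u, hu⟩ : ∃ u : Fin 8 → ℤ, v = (2 : ℤ) • u :=
      ⟨fun j => (h2 j).choose, funext fun j => (h2 j).choose_spec⟩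
    have h3 : fm v v = 4 * fm u u := by
      rw [hu]; simp only [map_smul, LinearMap.smul_apply, smul_eq_mul]; ring
    have h4 := fm_nonneg u
    have h5 := ih (fm u u).toNat (by omega) u (fun x hx => by
      have := hv x hx
      rw [hu, map_smul] at this
      exact smul_right_injective _ two_ne_zero this) (Int.toNat_of_nonneg h4).symm
    rw [hu, h5, smul_zero]

/-- **A subgroup of order 25 of `W(E₈)` centralizes the `2`-subgroups and the `3`-subgroups that it normalizes**; they are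
central in `W(E₈)`. -/
theorem W1' {P S : Subgroup CoxeterMatrix.E₈.Group} (hP : Nat.card P = 25) {s : ℕ} (h23 : s = 2 ∨ s = 3)
    (hS : IsPGroup s S) (hN : P ≤ Subgroup.normalizer (S : Set CoxeterMatrix.E₈.Group)) :
    ∀ g ∈ S, g ^ 2 = 1 ∧ ∀ v, g * v = v * g := by
  haveI : Fact s.Prime := ⟨by rcases h23 with rfl | rfl <;> norm_num⟩
  have h := triv_of_norm h23 (by simp) (rs s) hP (faithful s hP) (fs s) (fs_nondeg s) (by
    intro x y
    obtain ⟨x, rfl⟩ := red_surj s x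
    obtain ⟨y, rfl⟩ := red_surj s y
    rw [fs_red, fs_red, fm_symm]) (by
    intro g x y
    obtain ⟨x, rfl⟩ := red_surj s x
    obtain ⟨y, rfl⟩ := red_surj s y
    rw [rs_red, rs_red, fs_red, fs_red, fm_rp]) hS hN
  exact fun g hg => ⟨sq_of_sign (sign_of_rs s (h g hg)), central_of_sign (sign_of_rs s (h g hg))⟩

theorem W1 {P S : Subgroup CoxeterMatrix.E₈.Group} (hP : Nat.card P = 25) {s : ℕ} (h23 : s = 2 ∨ s = 3)
    (hS : IsPGroup s S) (hN : P ≤ Subgroup.normalizer (S : Set CoxeterMatrix.E₈.Group)) :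
    P ≤ Subgroup.centralizer (S : Set CoxeterMatrix.E₈.Group) :=
  fun x _ g hg => (W1' hP h23 hS hN g hg).2 x

end Cfsg.Agent.T44.Ex
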